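import Mathlib
import Cfsg.Agent.Lib.Helper1.Coprime
import Cfsg.Agent.Lib.Helper1.ClassSize
import Cfsg.Agent.S0046

set_option autoImplicit false

namespace Cfsg.Agent.Lib.Helper1

open Subgroup Pointwise

universe u

/-- A nontrivial finite solvable group has a normal subgroup of prime index. -/
theorem exists_normal_prime_index {G : Type*} [Group G] [Finite G] [Group.IsSolvable G]
    [Nontrivial G] : ∃ M : Subgroup G, M.Normal ∧ M.index.Prime := by
  obtain ⟨M, ⟨hMn, hMt⟩, hmax⟩ := Set.Finite.exists_maximal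
    (s := {N : Subgroup G | N.Normal ∧ N ≠ ⊤}) (Set.toFinite _) ⟨⊥, inferInstance, bot_ne_top⟩
  refine ⟨M, hMn, ?_⟩
  haveI : Nontrivial (G ⧸ M) := by
    rw [← Finite.one_lt_card_iff_nontrivial, ← index_eq_card]
    rw [Nat.one_lt_iff_ne_zero_and_ne_one]
    exact ⟨index_ne_zero_of_finite, fun h => hMt (index_eq_one.mp h)⟩
  haveI : IsSimpleGroup (G ⧸ M) := ⟨fun N hN => by
    by_cases h : N.comap (QuotientGroup.mk' M) = ⊤
    · right
      rw [← map_comap_eq_self_of_surjective (QuotientGroup.mk'_surjective M) N, h,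
        ← MonoidHom.range_eq_map, MonoidHom.range_eq_top.mpr (QuotientGroup.mk'_surjective M)]
    · left
      have hle : M ≤ N.comap (QuotientGroup.mk' M) := by
        intro m hm
        rw [mem_comap]
        have : QuotientGroup.mk' M m = 1 := (QuotientGroup.eq_one_iff m).mpr hm
        rw [this]; exact one_mem _
      have h2 := hmax (y := N.comap (QuotientGroup.mk' M)) ⟨hN.comap _, h⟩ hle
      rw [← map_comap_eq_self_of_surjective (QuotientGroup.mk'_surjective M) N,
        le_antisymm h2 hle]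
      rw [Subgroup.map_eq_bot_iff, QuotientGroup.ker_mk']⟩
  have hcomm := IsSimpleGroup.comm_iff_isSolvable.mpr (inferInstance : Group.IsSolvable (G ⧸ M))
  letI : CommGroup (G ⧸ M) := { (inferInstance : Group (G ⧸ M)) with mul_comm := hcomm }
  rw [index_eq_card]
  exact IsSimpleGroup.prime_card

/-- In a nilpotent subgroup, subgroups of coprime orders (one normalising the other) commute. -/
theorem commutator_eq_bot_of_nilpotent_coprime {G : Type*} [Group G] [Finite G]
    (N U A : Subgroup G) (hN : Group.IsNilpotent N) (hU : U ≤ N) (hA : A ≤ N)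
    (hAU : A ≤ normalizer (U : Set G)) (hcop : (Nat.card A).Coprime (Nat.card U)) :
    ⁅U, A⁆ = ⊥ := by
  have hUs : Group.IsSolvable U := isSolvable_of_le hU inferInstance
  have hWW := coprime_comm_comm A U hAU hcop (Or.inr hUs)
  obtain ⟨n, hn⟩ := (isNilpotent_iff_lowerCentralSeries _).mp hN
  have key : ∀ m, ⁅U, A⁆ ≤ N.lowerCentralSeries m := by
    intro m
    induction m with
    | zero => exact (le_normalizer_iff_commutator_le_left.mp hAU).trans hU
    | succ m ih =>
      rw [Subgroup.lowerCentralSeries_succ]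
      calc ⁅U, A⁆ = ⁅⁅U, A⁆, A⁆ := hWW.symm
        _ ≤ _ := commutator_mono ih hA
  have := key n
  rw [hn] at this
  exact le_bot_iff.mp this

/-- Sylow's theorem inside a subgroup `L`. -/
theorem exists_conj_le_of_not_dvd_relIndex {G : Type*} [Group G] [Finite G] {q : ℕ}
    [hq' : Fact q.Prime] (H L R : Subgroup G) (hq : ¬ q ∣ H.relIndex L) (hRL : R ≤ L)
    (hR : IsPGroup q R) : ∃ c ∈ L, ∀ y ∈ R, c⁻¹ * y * c ∈ H := by
  have hZ : IsPGroup q (R.subgroupOf L) := hR.comap_subtype
  obtain ⟨c', hc'⟩ := hZ.nonempty_fixed_point_of_prime_not_dvd_card (L ⧸ H.subgroupOf L) hq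
  induction c' using QuotientGroup.induction_on with
  | H c =>
  refine ⟨c, c.2, fun y hy => ?_⟩
  have h1 := hc' ⟨⟨y, hRL hy⟩, mem_subgroupOf.mpr hy⟩
  have h2 : ((⟨y, hRL hy⟩ * c : L) : L ⧸ H.subgroupOf L) = (c : L ⧸ H.subgroupOf L) := h1
  rw [QuotientGroup.eq, mem_subgroupOf] at h2
  have h3 := H.inv_mem h2
  convert h3 using 1
  simp [mul_assoc]

theorem exists_pPart_decomp {G : Type*} [Group G] [Finite G] {q : ℕ} (hq : q.Prime) (x : G) :
    ∃ z y : G, z ∈ zpowers x ∧ y ∈ zpowers x ∧ x = z * y ∧ (orderOf z).Coprime q ∧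
      ∃ a : ℕ, y ^ (q ^ a) = 1 := by
  obtain ⟨a, m, hm, h⟩ := Nat.exists_eq_pow_mul_and_not_dvd (orderOf_pos x).ne' q hq.ne_one
  have hcop : (q ^ a).Coprime m := Nat.Coprime.pow_left a ((Nat.Prime.coprime_iff_not_dvd hq).mpr hm)
  have hbez : ((q ^ a : ℕ) : ℤ) * Nat.gcdA (q ^ a) m + (m : ℤ) * Nat.gcdB (q ^ a) m = 1 := by
    have := Nat.gcd_eq_gcd_ab (q ^ a) m
    rw [hcop] at this
    exact_mod_cast this.symm
  refine ⟨x ^ (((q ^ a : ℕ) : ℤ) * Nat.gcdA (q ^ a) m), x ^ ((m : ℤ) * Nat.gcdB (q ^ a) m),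
    zpow_mem (mem_zpowers x) _, zpow_mem (mem_zpowers x) _, ?_, ?_, a, ?_⟩
  · rw [← zpow_add, hbez, zpow_one]
  · have hzm : (x ^ (((q ^ a : ℕ) : ℤ) * Nat.gcdA (q ^ a) m)) ^ m = 1 := by
      rw [← zpow_natCast, ← zpow_mul]
      have : ((q ^ a : ℕ) : ℤ) * Nat.gcdA (q ^ a) m * (m : ℤ) =
          ((orderOf x : ℕ) : ℤ) * Nat.gcdA (q ^ a) m := by
        rw [h]; push_cast; ring
      rw [this, zpow_mul, zpow_natCast, pow_orderOf_eq_one, one_zpow]
    exact Nat.Coprime.coprime_dvd_left (orderOf_dvd_of_pow_eq_one hzm)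
      ((Nat.Prime.coprime_iff_not_dvd hq).mpr hm).symm
  · rw [← zpow_natCast, ← zpow_mul]
    have : (m : ℤ) * Nat.gcdB (q ^ a) m * ((q ^ a : ℕ) : ℤ) =
        ((orderOf x : ℕ) : ℤ) * Nat.gcdB (q ^ a) m := by
      rw [h]; push_cast; ring
    rw [this, zpow_mul, zpow_natCast, pow_orderOf_eq_one, one_zpow]

theorem isNilpotent_of_le' {G : Type*} [Group G] {H K : Subgroup G} (h : H ≤ K)
    (hK : Group.IsNilpotent K) : Group.IsNilpotent H :=
  Group.nilpotent_of_mulEquiv (subgroupOfEquivOfLe h)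

theorem isNilpotent_conj_smul {G : Type*} [Group G] (H : Subgroup G) (x : G)
    (hH : Group.IsNilpotent H) : Group.IsNilpotent (MulAut.conj x • H : Subgroup G) :=
  Group.nilpotent_of_mulEquiv (Subgroup.equivSMul (MulAut.conj x) H)

/-- Wielandt: a nilpotent Hall subgroup contains a conjugate of every subgroup whose order
involves only primes dividing its order. -/
theorem wielandt_hall {G : Type u} [Group G] [Finite G] : ∀ (n : ℕ) (H K : Subgroup G),
    Nat.card K = n → Group.IsNilpotent H → (Nat.card H).Coprime H.index →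
    (∀ p : ℕ, p.Prime → p ∣ Nat.card K → p ∣ Nat.card H) → ∃ x : G, K ≤ MulAut.conj x • H := by
  intro n
  induction n using Nat.strong_induction_on with
  | _ n ih =>
  intro H K hn hH hHall hK
  by_cases hK1 : K = ⊥
  · exact ⟨1, hK1 ▸ bot_le⟩
  -- `K` is solvable by Schmidt's theorem
  have hKsolv : Group.IsSolvable K := by
    apply Cfsg.Agent.S0046.result
    intro M hM
    have hlt : Nat.card (M.map K.subtype) < n := by
      rw [card_map_subtype, ← hn, ← card_top (G := K)]
      exact card_lt_of_lt (lt_top_iff_ne_top.mpr hM.1)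
    obtain ⟨x, hx⟩ := ih _ hlt H (M.map K.subtype) rfl hH hHall
      (fun p hp hd => hK p hp (hd.trans (card_dvd_of_le (map_subtype_le M))))
    have h1 : Group.IsNilpotent (M.map K.subtype) :=
      isNilpotent_of_le' hx (isNilpotent_conj_smul H x hH)
    exact Group.nilpotent_of_mulEquiv (M.equivMapOfInjective K.subtype K.subtype_injective).symm
  haveI : Nontrivial K := (nontrivial_iff_ne_bot K).mpr hK1
  obtain ⟨M', hM'n, hM'p⟩ := exists_normal_prime_index (G := K)
  set p := M'.index with hp_def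
  haveI := Fact.mk hM'p
  set M := M'.map K.subtype with hM
  have hMK : M ≤ K := map_subtype_le M'
  have hMsub : M.subgroupOf K = M' := comap_map_eq_self_of_injective K.subtype_injective M'
  have hMrel : M.relIndex K = p := by
    change (M.subgroupOf K).index = p
    rw [hMsub]
  have hMlt : Nat.card M < n := by
    rw [hM, card_map_subtype, ← hn, ← card_top (G := K)]
    apply card_lt_of_lt (lt_top_iff_ne_top.mpr _)
    intro htop
    have h1 : p = 1 := by rw [hp_def, htop, index_top]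
    rw [h1] at hM'p
    exact Nat.not_prime_one hM'p
  obtain ⟨x, hx⟩ := ih _ hMlt H M rfl hH hHall
    (fun q hq hd => hK q hq (hd.trans (card_dvd_of_le hMK)))
  set H' := MulAut.conj x • H with hH'
  have hH'n : Group.IsNilpotent H' := isNilpotent_conj_smul H x hH
  have hH'card : Nat.card H' = Nat.card H := card_conj_smul x H
  have hH'idx : H'.index = H.index := by
    have h1 := H'.card_mul_index
    have h2 := H.card_mul_index
    rw [hH'card, ← h2] at h1
    exact Nat.eq_of_mul_eq_mul_left Nat.card_pos h1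
  have hpK : p ∣ Nat.card K := hMrel ▸ relIndex_dvd_card M K
  have hpH' : p ∣ Nat.card H' := hH'card ▸ hK p hM'p hpK
  have hpidx : ¬ p ∣ H'.index := by
    intro hd
    have h2 : p ∣ Nat.gcd (Nat.card H') H'.index := Nat.dvd_gcd hpH' hd
    rw [hH'card, hH'idx, hHall] at h2
    exact hM'p.one_lt.ne' (Nat.dvd_one.mp h2)
  obtain ⟨S0⟩ : Nonempty (Sylow p H') := inferInstance
  haveI hS0n : (S0 : Subgroup H').Normal := inferInstance
  set S := (S0 : Subgroup H').map H'.subtype with hS
  have hSH' : S ≤ H' := map_subtype_le _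
  have hSp : IsPGroup p S := S0.2.map _
  have hSidx : ¬ p ∣ S.index := by
    rw [hS, index_map_subtype]
    intro hd
    rcases (Nat.Prime.dvd_mul hM'p).mp hd with h | h
    · exact S0.not_dvd_index h
    · exact hpidx h
  have hH'S : H' ≤ normalizer (S : Set G) := by
    have := (normal_subgroupOf_iff_le_normalizer hSH').mp (by
      rw [hS]
      have : ((S0 : Subgroup H').map H'.subtype).subgroupOf H' = S0 :=
        comap_map_eq_self_of_injective H'.subtype_injective _
      rw [this]; exact hS0n)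
    exact this
  -- `p`-elements of `H'` lie in `S`
  have hpel : ∀ y ∈ H', (∃ a : ℕ, y ^ (p ^ a) = 1) → y ∈ S := by
    intro y hy hya
    obtain ⟨c, hc, hcy⟩ := exists_conj_mem_of_not_dvd_relIndex S H'
      (fun hd => hSidx (hd.trans (relIndex_dvd_index_of_le hSH'))) y hy hya
    have h1 := le_normalizer_iff.mp hH'S c hc _ hcy
    have h2 : c * (c⁻¹ * y * c) * c⁻¹ = y := by group
    rwa [h2] at h1
  set L := closure {m : G | m ∈ M ∧ (orderOf m).Coprime p} with hL
  have hLM : L ≤ M := (closure_le M).mpr (fun m hm => hm.1)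
  have hMnK : ∀ k ∈ K, ∀ m ∈ M, k * m * k⁻¹ ∈ M := by
    rintro k hk _ ⟨m', hm', rfl⟩
    exact ⟨⟨k, hk⟩ * m' * ⟨k, hk⟩⁻¹, hM'n.conj_mem m' hm' ⟨k, hk⟩, rfl⟩
  have hKL : K ≤ normalizer (L : Set G) := by
    rw [hL, le_normalizer_closure_iff]
    rintro k hk m ⟨hm1, hm2⟩
    apply Subgroup.subset_closure
    refine ⟨hMnK k hk m hm1, ?_⟩
    have : orderOf (k * m * k⁻¹) = orderOf m := (MulAut.conj k).orderOf_eq m
    rw [this]; exact hm2
  have hLS : L ≤ centralizer (S : Set G) := by
    rw [hL, closure_le]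
    rintro m ⟨hm1, hm2⟩
    have hmH' : m ∈ H' := hx hm1
    have h1 : ⁅S, zpowers m⁆ = ⊥ := by
      apply commutator_eq_bot_of_nilpotent_coprime H' S (zpowers m) hH'n hSH'
        (zpowers_le.mpr hmH') ((zpowers_le.mpr hmH').trans hH'S)
      rw [Nat.card_zpowers]
      obtain ⟨k, hk⟩ := IsPGroup.iff_card.mp hSp
      rw [hk]
      exact Nat.Coprime.pow_right k hm2
    rw [commutator_comm, commutator_eq_bot_iff_le_centralizer] at h1
    exact h1 (mem_zpowers m)
  have hSL : S ≤ normalizer (L : Set G) :=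
    (le_centralizer_iff.mp hLS).trans (centralizer_le_normalizer _)
  set T := M ⊓ S with hT
  have hTK : T ≤ K := inf_le_left.trans hMK
  have hTp : IsPGroup p T := hSp.to_le inf_le_right
  obtain ⟨P1', hP1'⟩ := (hTp.comap_subtype (K := K)).exists_le_sylow
  set P1 := (P1' : Subgroup K).map K.subtype with hP1
  have hP1K : P1 ≤ K := map_subtype_le _
  have hTP1 : T ≤ P1 := by
    have h1 : T.subgroupOf K ≤ (P1' : Subgroup K) := hP1'
    have := map_mono (f := K.subtype) h1
    rwa [map_subgroupOf_eq_of_le hTK] at this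
  have hP1p : IsPGroup p P1 := P1'.2.map _
  obtain ⟨c, hc, hcP⟩ := exists_conj_le_of_not_dvd_relIndex S (normalizer (L : Set G)) P1
    (fun hd => hSidx (hd.trans (relIndex_dvd_index_of_le hSL))) (hP1K.trans hKL) hP1p
  -- `M ≤ L ⊔ T`
  have hMLT : M ≤ L ⊔ T := by
    intro m hm
    obtain ⟨z, y, hz, hy, hmzy, hzc, hya⟩ := exists_pPart_decomp hM'p m
    have hzM : z ∈ M := (zpowers_le.mpr hm) hz
    have hyM : y ∈ M := (zpowers_le.mpr hm) hy
    rw [hmzy]
    exact (L ⊔ T).mul_mem ((le_sup_left : L ≤ L ⊔ T) (Subgroup.subset_closure ⟨hzM, hzc⟩))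
      ((le_sup_right : T ≤ L ⊔ T) (mem_inf.mpr ⟨hyM, hpel y (hx hyM) hya⟩))
  have hKMP : K ≤ M ⊔ P1 := by
    have hJK : M ⊔ P1 ≤ K := sup_le hMK hP1K
    have h1 := relIndex_mul_relIndex M (M ⊔ P1) K le_sup_left hJK
    rw [hMrel] at h1
    rcases (Nat.dvd_prime hM'p).mp (Dvd.intro_left _ h1) with h2 | h2
    · exact relIndex_eq_one.mp h2
    · exfalso
      rw [h2] at h1
      have h3 : M.relIndex (M ⊔ P1) = 1 := by
        have : M.relIndex (M ⊔ P1) * p = 1 * p := by rw [h1, one_mul]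
        exact Nat.eq_of_mul_eq_mul_right hM'p.pos this
      have h4 : P1 ≤ M := le_sup_right.trans (relIndex_eq_one.mp h3)
      have h5 := relIndex_mul_relIndex P1 M K h4 hMK
      have h6 : P1.relIndex K = (P1' : Subgroup K).index := by
        have h7 : P1.subgroupOf K = (P1' : Subgroup K) :=
          comap_map_eq_self_of_injective K.subtype_injective _
        change (P1.subgroupOf K).index = _
        rw [h7]
      rw [hMrel, h6] at h5
      exact P1'.not_dvd_index (Dvd.intro_left _ h5)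
  refine ⟨c * x, ?_⟩
  have hfin : MulAut.conj (c * x) • H = MulAut.conj c • H' := by
    rw [hH', smul_smul, ← map_mul]
  rw [hfin]
  have hmemW : ∀ y : G, c⁻¹ * y * c ∈ H' → y ∈ MulAut.conj c • H' := by
    intro y hy
    rw [mem_conj_smul]
    exact hy
  have hLW : L ≤ MulAut.conj c • H' := by
    intro l hl
    apply hmemW
    have h1 := le_normalizer_iff.mp (le_refl (normalizer (L : Set G))) c⁻¹ (inv_mem hc) l hl
    rw [inv_inv] at h1
    exact hx (hLM h1)
  have hPW : P1 ≤ MulAut.conj c • H' := fun y hy => hmemW y (hSH' (hcP y hy))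
  calc K ≤ M ⊔ P1 := hKMP
    _ ≤ (L ⊔ T) ⊔ P1 := sup_le_sup_right hMLT _
    _ ≤ MulAut.conj c • H' := sup_le (sup_le hLW (hTP1.trans hPW)) hPW

end Cfsg.Agent.Lib.Helper1
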