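import Mathlib
import Cfsg.Agent.Lib.Helper24.BlockThird
import Cfsg.Agent.Lib.Helper24.BlockTransport
import Cfsg.Agent.Lib.Helper7.BlockCover2
import Cfsg.Agent.Lib.Helper25.Gallagher2
import Cfsg.Agent.Lib.Helper25.AbQuot
import Cfsg.Agent.Lib.Helper25.CycExt2
import Cfsg.Agent.Lib.Helper25.Monomial
import Cfsg.Agent.Lib.Helper25.DetExt2
import Cfsg.Agent.Lib.Helper1.Wielandt

/-! Alperin--Dade: isomorphic principal blocks, character-theoretic proof. -/

set_option autoImplicit false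
set_option linter.style.haveILetI false

namespace Cfsg.Agent.Lib.Helper1

open Cfsg Cfsg.Agent.Lib.Helper7 Cfsg.Agent.Lib.Helper24
open scoped ComplexConjugate

universe u
variable {G : Type u} [Group G] {M : Ideal AlgInt} {p : ℕ}

/-- (L): a character of the principal block is congruent to its degree on elements whose
centralizer has index prime to `p`. -/
theorem ad_ratio [Finite G] (hM : IsPModular p M) {χ : IrrCharacter G}
    (hχ : χ ∈ principalBlock M G) (c : G) (Q : Subgroup G) (hQ : ¬ p ∣ Q.index)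
    (hQc : Q ≤ Subgroup.centralizer {c}) :
    MemLocalIdeal M ((χ : G → ℂ) c / (χ : G → ℂ) 1 - 1) := by
  haveI := hM.2.1.isPrime
  have h1 : MemLocalIdeal M (centralChar (fun _ : G => (1 : ℂ)) c - centralChar (χ : G → ℂ) c) :=
    hχ c
  have hidx : ¬ p ∣ (Subgroup.centralizer ({c} : Set G)).index :=
    fun h => hQ (h.trans (Subgroup.index_dvd_of_le hQc))
  have h2 : ¬ MemLocalIdeal M (((Subgroup.centralizer ({c} : Set G)).index : ℕ) : ℂ) := by
    rw [memLocalIdeal_natCast_iff hM]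
    exact hidx
  have h3 := memLocalRing_inv (memLocalRing_natCast (M := M) _) h2
  have h4 := memLocalIdeal_neg (memLocalIdeal_mul_left h3 h1)
  have h0 := ne_zero_of_not_memLocalIdeal h2
  convert h4 using 1
  unfold centralChar
  field_simp
  ring

/-- a local number congruent to one is a unit -/
theorem ad_unit [M.IsPrime] {u : ℂ} (hu : MemLocalIdeal M (u - 1)) :
    MemLocalRing M u ∧ ¬ MemLocalIdeal M u := by
  constructor
  · have := memLocalRing_add (memLocalRing_of_memLocalIdeal hu) (memLocalRing_one (M := M))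
    simpa using this
  · intro h
    have := memLocalIdeal_sub h hu
    rw [sub_sub_cancel] at this
    exact not_memLocalIdeal_one this

theorem ad_div [M.IsPrime] {u w : ℂ} (hu : MemLocalIdeal M (u - 1)) (hw : MemLocalIdeal M (w - 1)) :
    MemLocalIdeal M (w / u - 1) := by
  obtain ⟨h1, h2⟩ := ad_unit hu
  have h3 := memLocalRing_inv h1 h2
  have h4 := memLocalIdeal_mul_left h3 (memLocalIdeal_sub hw hu)
  have h0 := ne_zero_of_not_memLocalIdeal h2
  convert h4 using 1
  field_simp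
  ring

/-- (F1) constituents of the restriction of a principal block character to a normal subgroup
lie in the principal block. -/
theorem ad_F1 [Finite G] (hM : IsPModular p M) (N : Subgroup G) [hN : N.Normal]
    {χ : IrrCharacter G} (hχ : χ ∈ principalBlock M G) {θ : IrrCharacter N}
    [Fintype N]
    (hcon : classInner (fun n : N => (χ : G → ℂ) n) (θ : N → ℂ) ≠ 0) :
    θ ∈ principalBlock M N := by
  classical
  haveI := hM.2.1.isPrime
  haveI := Fintype.ofFinite G
  have h1 : classInner (fun n : N => (oneIrr G : G → ℂ) n) (oneIrr N : N → ℂ) ≠ 0 := by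
    have : (fun n : N => (oneIrr G : G → ℂ) n) = (oneIrr N : N → ℂ) := rfl
    rw [this, classInner_irr_self (oneIrr N).2]
    exact one_ne_zero
  obtain ⟨g, θ0, hθ0, rfl⟩ := mem_conjClosure_of_cover N (M := M)
    (isPBlock_principalBlock (M := M) (G := G)) (isPBlock_principalBlock (M := M) (G := N))
    (oneIrr_mem_principalBlock (M := M) (G := G)) (oneIrr_mem_principalBlock (M := M) (G := N)) h1
    hχ hcon
  have h2 := sameBlock_conjIrr N (M := M) (θ := oneIrr N) (θ' := θ0) hθ0 g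
  exact h2


theorem ad_classInner_regInd [Fintype G] (χ : IrrCharacter G) :
    classInner (χ : G → ℂ) (regInd p G) =
      (Nat.card G : ℂ)⁻¹ * ((χ : G → ℂ) 1 * Om (regInd p G) χ) := by
  have h1 := irr_apply_one_ne_zero χ.2
  unfold classInner Om
  congr 1
  rw [mul_div_cancel₀ _ h1]
  apply Finset.sum_congr rfl
  intro g _
  by_cases hg : p ∣ orderOf g
  · rw [regInd_of_singular hg]; simp
  · rw [regInd_of_regular hg]; simp

/-- (F2) every character of the principal block of a subgroup lies under a character of the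
principal block of the group. -/
theorem ad_F2 [Finite G] (hM : IsPModular p M) (H : Subgroup G) [Fintype H]
    {θ : IrrCharacter H} (hθ : θ ∈ principalBlock M H) :
    ∃ χ ∈ principalBlock M G, classInner (fun h : H => (χ : G → ℂ) h) (θ : H → ℂ) ≠ 0 := by
  classical
  haveI := hM.2.1.isPrime
  haveI := Fintype.ofFinite G
  haveI : Fintype (IrrCharacter G) := Fintype.ofFinite _
  by_contra hcon
  push Not at hcon
  have hcf := Cfsg.Agent.Lib.Helper25.indFun_isClassFunction H (θ : H → ℂ)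
  have h1 := Cfsg.Agent.Lib.Helper25.frobenius_reciprocity H (θ : H → ℂ) (regInd p G)
    (isClassFunction_regInd p)
  have h2 : (fun h : H => regInd p G h) = regInd p H := by
    funext h
    by_cases hh : p ∣ orderOf h
    · rw [regInd_of_singular hh, regInd_of_singular (by rwa [Subgroup.orderOf_coe])]
    · rw [regInd_of_regular hh, regInd_of_regular (by rwa [Subgroup.orderOf_coe])]
  rw [h2, ad_classInner_regInd] at h1
  have h3 : classInner (indFun H (θ : H → ℂ)) (regInd p G) = 0 := by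
    conv_lhs => rw [classFunction_eq_sum hcf]
    rw [Helper7.classInner_sum_left]
    apply Finset.sum_eq_zero
    intro χ _
    rw [Helper7.classInner_smul_left]
    by_cases hχ : χ ∈ principalBlock M G
    · have h4 := hcon χ hχ
      rw [Cfsg.Agent.Lib.Helper25.frobenius_reciprocity H _ _ (isClassFunction_irr χ),
        ← Helper7.classInner_conj_symm, h4, map_zero, zero_mul]
    · rw [ad_classInner_regInd, Om_regInd_eq_zero hM hχ]
      simp
  rw [h3] at h1
  have h5 := (mem_principalBlock_iff hM θ).1 hθ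
  have h6 := ne_zero_of_not_memLocalIdeal h5
  have h7 : (Nat.card H : ℂ) ≠ 0 := by exact_mod_cast Nat.card_pos.ne'
  exact (mul_ne_zero (inv_ne_zero h7) (mul_ne_zero (irr_apply_one_ne_zero θ.2) h6)) h1.symm


/-- an irreducible character of a `p'`-quotient congruent to its degree everywhere is trivial -/
theorem ad_trivial [Finite G] (hM : IsPModular p M) (N : Subgroup G) [hN : N.Normal]
    (hidx : ¬ p ∣ N.index) {β : G → ℂ} (hβ : IsIrrCharacter G β) (hker : ∀ n ∈ N, β n = β 1)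
    (hL : ∀ x : G, MemLocalIdeal M (β x / β 1 - 1)) : β = fun _ => 1 := by
  classical
  haveI := hM.2.1.isPrime
  haveI := Fintype.ofFinite G
  haveI : Fintype (G ⧸ N) := Fintype.ofFinite _
  by_contra hne
  have h1 : classInner β (oneIrr G : G → ℂ) = 0 := classInner_irr_ne hβ (oneIrr G).2 hne
  have hG : (Nat.card G : ℂ) ≠ 0 := by exact_mod_cast Nat.card_pos.ne'
  have hNc : (Nat.card N : ℂ) ≠ 0 := by exact_mod_cast Nat.card_pos.ne'
  have h2 : ∑ x : G, β x = 0 := by
    unfold classInner at h1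
    have h3 := (mul_eq_zero.1 h1).resolve_left (inv_ne_zero hG)
    have h4 : ∀ g : G, β g * conj ((oneIrr G : G → ℂ) g) = β g := by
      intro g
      have : (oneIrr G : G → ℂ) g = 1 := rfl
      rw [this, map_one, mul_one]
    simpa only [h4] using h3
  let F : G ⧸ N → ℂ := fun q => β q.out / β 1 - 1
  have hF : ∀ x : G, F (QuotientGroup.mk' N x) = β x / β 1 - 1 := by
    intro x
    obtain ⟨n, hn⟩ := QuotientGroup.mk_out_eq_mul N x
    show β (Quotient.out (x : G ⧸ N)) / β 1 - 1 = _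
    rw [hn, Cfsg.Agent.Lib.Helper25.char_mul_of_mem_ker' (Helper7.isCharacter_of_irr hβ)
      (hker n n.2)]
  have h5 := Cfsg.Agent.Lib.Helper25.sum_comp_quotient_mk N F
  simp only [hF] at h5
  rw [Finset.sum_sub_distrib, ← Finset.sum_div, h2, zero_div, zero_sub, Finset.sum_const,
    Finset.card_univ, nsmul_eq_mul, mul_one, ← Nat.card_eq_fintype_card, ← N.card_mul_index] at h5
  have h6 : ∑ q : G ⧸ N, F q = -(N.index : ℂ) := by
    apply mul_left_cancel₀ hNc
    rw [← h5]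
    push_cast
    ring
  have h7 : MemLocalIdeal M (∑ q : G ⧸ N, F q) := memLocalIdeal_sum _ _ (fun q _ => hL _)
  rw [h6] at h7
  have h8 := memLocalIdeal_neg h7
  rw [neg_neg, memLocalIdeal_natCast_iff hM] at h8
  exact hidx h8

/-- (U) -/
theorem ad_unique [Finite G] (hM : IsPModular p M) (N : Subgroup G) [hN : N.Normal]
    (hidx : ¬ p ∣ N.index) (C : Set G) (hcov : ∀ x : G, ∃ n ∈ N, ∃ c ∈ C, x = n * c)
    {ψ χ : G → ℂ} (hψ : IsIrrCharacter G ψ) (hψN : IsIrrCharacter N (fun n : N => ψ n))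
    (hχ : IsIrrCharacter G χ) [Fintype N]
    (hcon : classInner (fun n : N => χ n) (fun n : N => ψ n) ≠ 0)
    (hψL : ∀ c ∈ C, MemLocalIdeal M (ψ c / ψ 1 - 1))
    (hχL : ∀ c ∈ C, MemLocalIdeal M (χ c / χ 1 - 1)) : χ = ψ := by
  classical
  haveI := hM.2.1.isPrime
  haveI := Fintype.ofFinite G
  have hcfψ := Helper7.isClassFunction_of_isCharacter (Helper7.isCharacter_of_irr hψ)
  have hcfχ := Helper7.isClassFunction_of_isCharacter (Helper7.isCharacter_of_irr hχ)
  have hone : ((fun _ => 1 : N → ℂ) * fun n : N => ψ n) = fun n : N => ψ n := by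
    funext n; simp
  have hG := Cfsg.Agent.Lib.Helper25.gallagher_core N (φ := fun _ => 1) (ϑ := fun n : N => ψ n)
    (oneIrr N).2 (fun g => rfl) (fun g => Cfsg.Agent.Lib.Helper25.conjFun_restrict N hcfψ g)
    (by rw [hone]; exact hψN) hψ (fun n => rfl)
  have hc2 : classInner (indFun N ((fun _ => 1 : N → ℂ) * fun n : N => ψ n)) χ ≠ 0 := by
    rw [hone, Cfsg.Agent.Lib.Helper25.frobenius_reciprocity N _ _ hcfχ,
      ← Helper7.classInner_conj_symm]
    exact (map_ne_zero _).2 hcon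
  obtain ⟨β, hβ, hβ1, hβχ⟩ := hG.2.2 χ hχ hc2
  have hker := Cfsg.Agent.Lib.Helper25.ker_of_constituent_indFun_one N hβ hβ1
  have hβ0 := irr_apply_one_ne_zero hβ
  have hψ0 := irr_apply_one_ne_zero hψ
  have hL : ∀ x : G, MemLocalIdeal M (β x / β 1 - 1) := by
    intro x
    obtain ⟨n, hn, c, hc, rfl⟩ := hcov x
    rw [Cfsg.Agent.Lib.Helper25.char_mul_of_mem_ker (Helper7.isCharacter_of_irr hβ) (hker n hn)]
    have h1 := ad_div (hψL c hc) (hχL c hc)
    have h2 := ne_zero_of_not_memLocalIdeal (ad_unit (hψL c hc)).2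
    have h3 : ψ c ≠ 0 := fun h => h2 (by rw [h, zero_div])
    convert h1 using 2
    rw [← hβχ, Pi.mul_apply, Pi.mul_apply]
    field_simp
  have hβe := ad_trivial hM N hidx hβ hker hL
  rw [← hβχ, hβe]
  funext x
  simp

/-- elements centralizing a subgroup of `N` of index prime to `p` -/
def adGood (p : ℕ) (N : Subgroup G) : Set G :=
  {c | ∃ Q : Subgroup G, Q ≤ N ∧ ¬ p ∣ Q.index ∧ Q ≤ Subgroup.centralizer {c}}

theorem ad_ratio_good [Finite G] (hM : IsPModular p M) (N : Subgroup G) {χ : IrrCharacter G}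
    (hχ : χ ∈ principalBlock M G) {c : G} (hc : c ∈ adGood p N) :
    MemLocalIdeal M ((χ : G → ℂ) c / (χ : G → ℂ) 1 - 1) := by
  obtain ⟨Q, -, hQ, hQc⟩ := hc
  exact ad_ratio hM hχ c Q hQ hQc

/-- the cyclic step -/
theorem ad_cyclic [Finite G] (hM : IsPModular p M) (H : Subgroup G) [hH : H.Normal]
    (hcyc : IsCyclic (G ⧸ H)) (hcov : ∀ x : G, ∃ n ∈ H, ∃ c ∈ adGood p H, x = n * c)
    (η : IrrCharacter H) (hη : η ∈ principalBlock M H) :
    ∃ χ ∈ principalBlock M G, ∀ h : H, (χ : G → ℂ) h = (η : H → ℂ) h := by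
  classical
  haveI := hM.2.1.isPrime
  haveI := Fintype.ofFinite G
  haveI : Fintype H := Fintype.ofFinite _
  obtain ⟨χ, hχ, hcon⟩ := ad_F2 hM H hη
  refine ⟨χ, hχ, ?_⟩
  have hcomm : ∀ a b : G ⧸ H, a * b = b * a := by
    obtain ⟨q, hq⟩ := hcyc.exists_generator
    intro a b
    obtain ⟨i, rfl⟩ := Subgroup.mem_zpowers_iff.1 (hq a)
    obtain ⟨j, rfl⟩ := Subgroup.mem_zpowers_iff.1 (hq b)
    rw [← zpow_add, ← zpow_add, add_comm]
  have hab : ∀ x y : G, x * y * x⁻¹ * y⁻¹ ∈ H := by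
    intro x y
    rw [← QuotientGroup.eq_one_iff]
    simp only [QuotientGroup.mk_mul, QuotientGroup.mk_inv]
    rw [hcomm (x : G ⧸ H) (y : G ⧸ H)]
    group
  let T := Cfsg.Agent.Lib.Helper25.inertia H (η : H → ℂ)
  haveI : Fintype T := Fintype.ofFinite _
  have hHT : H ≤ T := Cfsg.Agent.Lib.Helper25.le_inertia H (isClassFunction_irr η)
  obtain ⟨ψ, hψ, hind, -⟩ := Cfsg.Agent.Lib.Helper25.clifford_corr_exists H T η.2
    (Cfsg.Agent.Lib.Helper25.mem_inertia H (η : H → ℂ)) hHT χ.2 hcon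
  have hTtop : ∀ x : G, x ∈ T := by
    intro x
    obtain ⟨n, hn, c, hc, rfl⟩ := hcov x
    refine T.mul_mem (hHT hn) ?_
    have h1 := ne_zero_of_not_memLocalIdeal (ad_unit (ad_ratio_good hM H hχ hc)).2
    have h2 : (χ : G → ℂ) c ≠ 0 := fun h => h1 (by rw [h, zero_div])
    rw [← hind, Cfsg.Agent.Lib.Helper25.indFun_apply] at h2
    obtain ⟨y, -, hy⟩ := Finset.exists_ne_zero_of_sum_ne_zero (right_ne_zero_of_mul h2)
    have hyT : y⁻¹ * c * y ∈ T := by
      by_contra hno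
      exact hy (Cfsg.Agent.Lib.Helper25.extendByZero_not_mem T ψ hno)
    have h3 := hHT (hab c y⁻¹)
    have h4 := T.mul_mem h3 hyT
    have h5 : c * y⁻¹ * c⁻¹ * y⁻¹⁻¹ * (y⁻¹ * c * y) = c := by group
    rwa [h5] at h4
  have hinv : ∀ g : G, Cfsg.Agent.Lib.Helper25.conjFun H (η : H → ℂ) g = η := fun g => hTtop g
  have hinv' : ∀ (g : G) (n : H), (η : H → ℂ) (MulAut.conjNormal g n) = (η : H → ℂ) n := by
    intro g n
    have := congrFun (hinv g) n
    rw [Cfsg.Agent.Lib.Helper25.conjFun_apply] at this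
    rw [← this]
    congr 1
  obtain ⟨ηh, hηh, hηhH⟩ := Cfsg.Agent.Lib.Helper25.exists_extension_of_cyclic_quotient H hcyc
    (η : H → ℂ) η.2 hinv'
  have hcon' : classInner (fun n : H => ηh n) (η : H → ℂ) ≠ 0 := by
    have : (fun n : H => ηh n) = (η : H → ℂ) := funext hηhH
    rw [this, classInner_irr_self η.2]
    exact one_ne_zero
  obtain ⟨f, hf⟩ := Cfsg.Agent.Lib.Helper25.exists_linear_mul_of_abelian_quotient H hab η.2 hinv
    χ.2 hηh hcon hcon'
  have hr := Cfsg.Agent.Lib.Helper25.restrict_eq_smul_of_invariant H χ.2 η.2 hcon hinv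
  have h1 : (χ : G → ℂ) 1 = (η : H → ℂ) 1 := by
    rw [hf]
    have := hηhH 1
    simp only [OneMemClass.coe_one] at this
    simp [this]
  have h2 := congrFun hr 1
  simp only [OneMemClass.coe_one, Pi.smul_apply, smul_eq_mul] at h2
  rw [h1] at h2
  have h3 : classInner (fun n : H => (χ : G → ℂ) n) (η : H → ℂ) = 1 := by
    have h0 := irr_apply_one_ne_zero η.2
    apply mul_right_cancel₀ h0
    rw [one_mul]
    exact h2.symm
  intro h
  have h4 := congrFun hr h
  rw [h3, one_smul] at h4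
  exact h4

theorem adGood_mono {N K : Subgroup G} (h : N ≤ K) : adGood p N ⊆ adGood p K := by
  rintro c ⟨Q, h1, h2, h3⟩
  exact ⟨Q, h1.trans h, h2, h3⟩

theorem adGood_subgroupOf {N K : Subgroup G} (hNK : N ≤ K) (c : K) (hc : (c : G) ∈ adGood p N) :
    c ∈ adGood p (N.subgroupOf K) := by
  obtain ⟨Q, h1, h2, h3⟩ := hc
  refine ⟨Q.subgroupOf K, ?_, ?_, ?_⟩
  · intro x hx
    exact h1 hx
  · intro h
    apply h2
    have h4 := Subgroup.relIndex_mul_index (h1.trans hNK)
    rw [← h4]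
    exact Dvd.dvd.mul_right h _
  · intro x hx
    have h5 := h3 hx
    rw [Subgroup.mem_centralizer_singleton_iff] at h5 ⊢
    exact Subtype.ext h5

theorem adCov_subgroupOf {N K : Subgroup G} (hNK : N ≤ K)
    (hcov : ∀ x : G, ∃ n ∈ N, ∃ c ∈ adGood p N, x = n * c) :
    ∀ x : K, ∃ n ∈ N.subgroupOf K, ∃ c ∈ adGood p (N.subgroupOf K), x = n * c := by
  intro x
  obtain ⟨n, hn, c, hc, hx⟩ := hcov x
  have hcK : c ∈ K := by
    have : c = n⁻¹ * x := by rw [hx]; group
    rw [this]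
    exact K.mul_mem (K.inv_mem (hNK hn)) x.2
  exact ⟨⟨n, hNK hn⟩, hn, ⟨c, hcK⟩, adGood_subgroupOf hNK ⟨c, hcK⟩ hc, Subtype.ext hx⟩

theorem ad_solvable_aux (hM : IsPModular p M) : ∀ (k : ℕ) (G : Type u) [Group G] [Finite G]
    (N : Subgroup G) [hN : N.Normal], N.index = k → Group.IsSolvable (G ⧸ N) →
    (∀ x : G, ∃ n ∈ N, ∃ c ∈ adGood p N, x = n * c) →
    ∀ θ ∈ principalBlock M N, ∃ χ ∈ principalBlock M G, ∀ n : N, (χ : G → ℂ) n = (θ : N → ℂ) n := by
  intro k
  induction k using Nat.strong_induction_on with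
  | _ k ih =>
    intro G _ _ N hN hk hsolv hcov θ hθ
    by_cases htriv : Subsingleton (G ⧸ N)
    · exact ad_cyclic hM N isCyclic_of_subsingleton hcov θ hθ
    · rw [not_subsingleton_iff_nontrivial] at htriv
      obtain ⟨Mb, hMbn, hMbp⟩ := Helper1.exists_normal_prime_index (G := G ⧸ N)
      let K : Subgroup G := Mb.comap (QuotientGroup.mk' N)
      haveI hMn : K.Normal := hMbn.comap _
      have hMidx : K.index = Mb.index :=
        Subgroup.index_comap_of_surjective Mb (QuotientGroup.mk'_surjective N)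
      have hNM : N ≤ K := by
        intro n hn
        show QuotientGroup.mk' N n ∈ Mb
        have : QuotientGroup.mk' N n = 1 := (QuotientGroup.eq_one_iff n).2 hn
        rw [this]
        exact Mb.one_mem
      have hidx := Subgroup.relIndex_mul_index hNM
      have hMp : K.index.Prime := hMidx ▸ hMbp
      let N' : Subgroup K := N.subgroupOf K
      have hN'idx : N'.index = N.relIndex K := rfl
      have hpos : 0 < N.relIndex K := by
        rcases Nat.eq_zero_or_pos (N.relIndex K) with h0 | h0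
        · rw [h0, zero_mul] at hidx
          exact absurd hidx.symm Subgroup.index_ne_zero_of_finite
        · exact h0
      have hlt : N'.index < k := by
        rw [hN'idx, ← hk, ← hidx]
        have := hMp.one_lt
        nlinarith
      let e : N' ≃* N := Subgroup.subgroupOfEquivOfLe hNM
      have hθ' : mapIrr e θ ∈ principalBlock M N' := (mapIrr_mem_principalBlock_iff e θ).2 hθ
      obtain ⟨η, hη, hηN⟩ := ih _ hlt K N' rfl
        (Cfsg.Agent.Lib.Helper25.isSolvable_quotient_subgroupOf N K) (adCov_subgroupOf hNM hcov)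
        (mapIrr e θ) hθ'
      have hcyc : IsCyclic (G ⧸ K) := by
        haveI : Fact K.index.Prime := ⟨hMp⟩
        exact isCyclic_of_prime_card (p := K.index) rfl
      have hcovK : ∀ x : G, ∃ n ∈ K, ∃ c ∈ adGood p K, x = n * c := by
        intro x
        obtain ⟨n, hn, c, hc, hx⟩ := hcov x
        exact ⟨n, hNM hn, c, adGood_mono hNM hc, hx⟩
      obtain ⟨χ, hχ, hχK⟩ := ad_cyclic hM K hcyc hcovK η hη
      refine ⟨χ, hχ, fun n => ?_⟩
      have h1 := hχK ⟨n, hNM n.2⟩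
      simp only at h1
      rw [h1]
      have h2 := hηN ⟨⟨n, hNM n.2⟩, n.2⟩
      simp only at h2
      rw [h2]
      rfl


theorem adGood_conj (N : Subgroup G) [hN : N.Normal] {c : G} (hc : c ∈ adGood p N) (x : G) :
    x * c * x⁻¹ ∈ adGood p N := by
  obtain ⟨Q, h1, h2, h3⟩ := hc
  refine ⟨Q.map (MulAut.conj x).toMonoidHom, ?_, ?_, ?_⟩
  · rintro _ ⟨q, hq, rfl⟩
    exact hN.conj_mem q (h1 hq) x
  · have : (Q.map (MulAut.conj x).toMonoidHom).index = Q.index :=
      Subgroup.index_map_equiv Q (MulAut.conj x)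
    rw [this]
    exact h2
  · rintro _ ⟨q, hq, rfl⟩
    have h5 := h3 hq
    rw [Subgroup.mem_centralizer_singleton_iff] at h5 ⊢
    simp only [MulEquiv.coe_toMonoidHom, MulAut.conj_apply]
    calc x * q * x⁻¹ * (x * c * x⁻¹) = x * (q * c) * x⁻¹ := by group
      _ = x * (c * q) * x⁻¹ := by rw [h5]
      _ = x * c * x⁻¹ * (x * q * x⁻¹) := by group

theorem ad_not_dvd_index (N : Subgroup G)
    (hcov : ∀ x : G, ∃ n ∈ N, ∃ c ∈ adGood p N, x = n * c) : ¬ p ∣ N.index := by
  obtain ⟨-, -, -, ⟨Q, h1, h2, -⟩, -⟩ := hcov 1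
  exact fun h => h2 (h.trans (Subgroup.index_dvd_of_le h1))

section

variable [Finite G] (M) (p) (N : Subgroup G) [hN : N.Normal] (θ : N → ℂ)

/-- `ψ` is a character of `H` extending `θ`, congruent to its degree on good elements. -/
def IsADExt (H : Subgroup G) (ψ : H → ℂ) : Prop :=
  IsCharacter H ψ ∧ (∀ (n : N) (h : (n : G) ∈ H), ψ ⟨n, h⟩ = θ n) ∧
    ∀ c : H, (c : G) ∈ adGood p N → MemLocalIdeal M (ψ c / θ 1 - 1)

variable {M p N θ}

omit hN in
theorem IsADExt.restrict_irr (hθ : IsIrrCharacter N θ) {H : Subgroup G} (hNH : N ≤ H)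
    {ψ : H → ℂ} (h : IsADExt M p N θ H ψ) :
    IsIrrCharacter (N.subgroupOf H) (fun x : N.subgroupOf H => ψ x) := by
  let e : N.subgroupOf H ≃* N := Subgroup.subgroupOfEquivOfLe hNH
  have h1 := Cfsg.Agent.Lib.Helper25.isIrrCharacter_comp_surjective e.toMonoidHom e.surjective hθ
  have h2 : (fun x : N.subgroupOf H => θ (e.toMonoidHom x)) = fun x : N.subgroupOf H => ψ x := by
    funext x
    exact (h.2.1 (e x) x.1.2).symm
  rw [← h2]
  exact h1

omit hN in
theorem IsADExt.irr (hθ : IsIrrCharacter N θ) {H : Subgroup G} (hNH : N ≤ H)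
    {ψ : H → ℂ} (h : IsADExt M p N θ H ψ) : IsIrrCharacter H ψ :=
  Cfsg.Agent.Lib.Helper25.isIrrCharacter_of_restrict (N.subgroupOf H) h.1 (h.restrict_irr hθ hNH)

theorem IsADExt.unique (hM : IsPModular p M) (hθ : IsIrrCharacter N θ)
    (hcov : ∀ x : G, ∃ n ∈ N, ∃ c ∈ adGood p N, x = n * c) {H : Subgroup G} (hNH : N ≤ H)
    {ψ ψ' : H → ℂ} (h : IsADExt M p N θ H ψ) (h' : IsADExt M p N θ H ψ') : ψ' = ψ := by
  classical
  haveI : Fintype (N.subgroupOf H) := Fintype.ofFinite _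
  have hidx := Subgroup.relIndex_mul_index hNH
  have hidx' : ¬ p ∣ (N.subgroupOf H).index := by
    intro hd
    apply ad_not_dvd_index N hcov
    rw [← hidx]
    exact Dvd.dvd.mul_right hd _
  have hcov' : ∀ x : H, ∃ n ∈ N.subgroupOf H, ∃ c ∈ {c : H | (c : G) ∈ adGood p N}, x = n * c := by
    intro x
    obtain ⟨n, hn, c, hc, hx⟩ := hcov x
    have hcK : c ∈ H := by
      have : c = n⁻¹ * x := by rw [hx]; group
      rw [this]
      exact H.mul_mem (H.inv_mem (hNH hn)) x.2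
    exact ⟨⟨n, hNH hn⟩, hn, ⟨c, hcK⟩, hc, Subtype.ext hx⟩
  have hone : ψ 1 = θ 1 := h.2.1 1 H.one_mem
  have hone' : ψ' 1 = θ 1 := h'.2.1 1 H.one_mem
  have heq : (fun n : N.subgroupOf H => ψ' n) = fun n : N.subgroupOf H => ψ n := by
    funext x
    have h1 := h.2.1 ⟨x, x.2⟩ x.1.2
    have h2 := h'.2.1 ⟨x, x.2⟩ x.1.2
    exact h2.trans h1.symm
  refine ad_unique hM (N.subgroupOf H) hidx' _ hcov' (h.irr hθ hNH) (h.restrict_irr hθ hNH)
    (h'.irr hθ hNH) ?_ ?_ ?_
  · rw [heq, classInner_irr_self (h.restrict_irr hθ hNH)]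
    exact one_ne_zero
  · intro c hc
    rw [hone]
    exact h.2.2 c hc
  · intro c hc
    rw [hone']
    exact h'.2.2 c hc

omit hN [Finite G] in
theorem IsADExt.pull {H H' : Subgroup G} (c : H' →* H)
    (hc : ∀ (n : N) (h' : (n : G) ∈ H'), ∃ n' : N, (c ⟨n, h'⟩ : G) = n' ∧ θ n' = θ n)
    (hg : ∀ h : H', (h : G) ∈ adGood p N → (c h : G) ∈ adGood p N) {ψ : H → ℂ}
    (h : IsADExt M p N θ H ψ) : IsADExt M p N θ H' (ψ ∘ c) := by
  refine ⟨Helper7.isCharacter_comp_hom h.1 c, ?_, ?_⟩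
  · intro n h'
    obtain ⟨n', hn', hθn⟩ := hc n h'
    rw [← hθn, Function.comp_apply]
    have h1 : (n' : G) ∈ H := by rw [← hn']; exact (c ⟨n, h'⟩).2
    rw [← h.2.1 n' h1]
    congr 1
    exact Subtype.ext hn'
  · intro x hx
    exact h.2.2 (c x) (hg x hx)

theorem exists_isADExt (hM : IsPModular p M) {θ : IrrCharacter N} (hθ : θ ∈ principalBlock M N)
    (hcov : ∀ x : G, ∃ n ∈ N, ∃ c ∈ adGood p N, x = n * c)
    (E : Subgroup G) [Group.IsSolvable E] :
    ∃ ψ : ↥(N ⊔ E) → ℂ, IsADExt M p N (θ : N → ℂ) (N ⊔ E) ψ := by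
  have hNH : N ≤ N ⊔ E := le_sup_left
  let e : N.subgroupOf (N ⊔ E) ≃* N := Subgroup.subgroupOfEquivOfLe hNH
  have hsolv : Group.IsSolvable (↥(N ⊔ E) ⧸ N.subgroupOf (N ⊔ E)) := by
    let φ : E →* ↥(N ⊔ E) ⧸ N.subgroupOf (N ⊔ E) :=
      (QuotientGroup.mk' _).comp (Subgroup.inclusion (le_sup_right : E ≤ N ⊔ E))
    apply Group.isSolvable_of_surjective (f := φ)
    intro q
    induction q using QuotientGroup.induction_on with
    | H x =>
      have hx : (x : G) ∈ ((N ⊔ E : Subgroup G) : Set G) := x.2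
      rw [Subgroup.normal_mul] at hx
      obtain ⟨n, hn, y, hy, hny⟩ := hx
      refine ⟨⟨y, hy⟩, ?_⟩
      show ((Subgroup.inclusion (le_sup_right : E ≤ N ⊔ E) ⟨y, hy⟩ : ↥(N ⊔ E)) :
        ↥(N ⊔ E) ⧸ N.subgroupOf (N ⊔ E)) = (x : ↥(N ⊔ E) ⧸ N.subgroupOf (N ⊔ E))
      rw [QuotientGroup.eq]
      show (((Subgroup.inclusion (le_sup_right : E ≤ N ⊔ E) ⟨y, hy⟩)⁻¹ * x : ↥(N ⊔ E)) : G) ∈ N
      simp only [Subgroup.coe_mul, Subgroup.coe_inv, Subgroup.coe_inclusion]
      rw [← hny]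
      have := hN.conj_mem n hn y⁻¹
      simpa [mul_assoc] using this
  have hθ' : mapIrr e θ ∈ principalBlock M (N.subgroupOf (N ⊔ E)) :=
    (mapIrr_mem_principalBlock_iff e θ).2 hθ
  obtain ⟨χ, hχ, hχN⟩ := ad_solvable_aux hM _ ↥(N ⊔ E) (N.subgroupOf (N ⊔ E)) rfl hsolv
    (adCov_subgroupOf hNH hcov) (mapIrr e θ) hθ'
  have hext : ∀ (n : N) (h : (n : G) ∈ N ⊔ E), (χ : ↥(N ⊔ E) → ℂ) ⟨n, h⟩ = (θ : N → ℂ) n := by
    intro n h
    exact hχN ⟨⟨n, h⟩, n.2⟩
  refine ⟨χ, Helper7.isCharacter_of_irr χ.2, hext, ?_⟩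
  intro c hc
  have h1 := ad_ratio_good hM (N.subgroupOf (N ⊔ E)) hχ (adGood_subgroupOf hNH c hc)
  have h2 : (χ : ↥(N ⊔ E) → ℂ) 1 = (θ : N → ℂ) 1 := hext 1 (Subgroup.one_mem _)
  rwa [h2] at h1

end

/-- existence of an extension in the principal block -/
theorem ad_exists [Finite G] (hM : IsPModular p M) (N : Subgroup G) [hN : N.Normal]
    (hcov : ∀ x : G, ∃ n ∈ N, ∃ c ∈ adGood p N, x = n * c)
    (θ : IrrCharacter N) (hθ : θ ∈ principalBlock M N) :
    ∃ χ ∈ principalBlock M G, ∀ n : N, (χ : G → ℂ) n = (θ : N → ℂ) n := by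
  classical
  haveI : Fintype N := Fintype.ofFinite _
  have hex : ∀ g : G, ∃ ψ, IsADExt M p N (θ : N → ℂ) (N ⊔ Subgroup.zpowers g) ψ := fun g => by
    haveI := Cfsg.Agent.Lib.Helper25.isSolvable_zpowers g
    exact exists_isADExt hM hθ hcov (Subgroup.zpowers g)
  choose Ψ hΨ using hex
  have hgmem : ∀ g : G, g ∈ N ⊔ Subgroup.zpowers g := fun g =>
    (le_sup_right : Subgroup.zpowers g ≤ _) (Subgroup.mem_zpowers g)
  have hinv : ∀ (g : G) (n : N), (θ : N → ℂ) (MulAut.conjNormal g n) = (θ : N → ℂ) n := by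
    intro g n
    have hcf := Helper7.isClassFunction_of_isCharacter (hΨ g).1
    have hn : (n : G) ∈ N ⊔ Subgroup.zpowers g := (le_sup_left : N ≤ _) n.2
    have h1 := hcf ⟨n, hn⟩ ⟨g, hgmem g⟩
    rw [(hΨ g).2.1 n hn] at h1
    rw [← h1, ← (hΨ g).2.1 (MulAut.conjNormal g n) ((le_sup_left : N ≤ _) (MulAut.conjNormal g n).2)]
    congr 1
  let f : G → ℂ := fun g => Ψ g ⟨g, hgmem g⟩
  have F1 : ∀ (H : Subgroup G) (_ : N ≤ H) (ψ : H → ℂ), IsADExt M p N (θ : N → ℂ) H ψ →
      ∀ h : H, f h = ψ h := by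
    intro H hNH ψ hψ h
    have hle : N ⊔ Subgroup.zpowers (h : G) ≤ H := sup_le hNH (Subgroup.zpowers_le.2 h.2)
    have hpull := IsADExt.pull (M := M) (p := p) (N := N) (θ := (θ : N → ℂ))
      (Subgroup.inclusion hle) (fun n h' => ⟨n, rfl, rfl⟩) (fun _ hx => hx) hψ
    have h1 := IsADExt.unique hM θ.2 hcov le_sup_left (hΨ h) hpull
    show Ψ h ⟨h, _⟩ = ψ h
    rw [← h1]
    rfl
  have hcf : IsClassFunction G f := by
    intro g x
    have hle : N ⊔ Subgroup.zpowers (x * g * x⁻¹) ≤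
        (N ⊔ Subgroup.zpowers g).comap (MulAut.conj x⁻¹).toMonoidHom := by
      apply sup_le
      · intro n hn
        apply (le_sup_left : N ≤ N ⊔ Subgroup.zpowers g)
        exact hN.conj_mem n hn x⁻¹
      · rw [Subgroup.zpowers_le, Subgroup.mem_comap]
        have : (MulAut.conj x⁻¹).toMonoidHom (x * g * x⁻¹) = g := by
          simp [MulAut.conj_apply, mul_assoc]
        rw [this]
        exact hgmem g
    let c : ↥(N ⊔ Subgroup.zpowers (x * g * x⁻¹)) →* ↥(N ⊔ Subgroup.zpowers g) :=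
      ((MulAut.conj x⁻¹).toMonoidHom.comp (N ⊔ Subgroup.zpowers (x * g * x⁻¹)).subtype).codRestrict
        (N ⊔ Subgroup.zpowers g) (fun h => hle h.2)
    have hpull := IsADExt.pull (M := M) (p := p) (N := N) (θ := (θ : N → ℂ)) c
      (fun n h' => ⟨MulAut.conjNormal x⁻¹ n, rfl, hinv x⁻¹ n⟩)
      (fun h hh => adGood_conj N hh x⁻¹) (hΨ g)
    have h1 := F1 _ le_sup_left _ hpull ⟨x * g * x⁻¹, hgmem _⟩
    simp only at h1
    rw [h1, Function.comp_apply]
    show Ψ g _ = Ψ g _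
    congr 1
    apply Subtype.ext
    show x⁻¹ * (x * g * x⁻¹) * x⁻¹⁻¹ = g
    group
  have hfN : ∀ n : N, f n = (θ : N → ℂ) n := fun n => (hΨ n).2.1 n _
  have hfirr : IsIrrCharacter G f := by
    refine Cfsg.Agent.Lib.Helper25.isIrrCharacter_of_patch N θ.2 f hcf hfN ?_
    intro E hE
    obtain ⟨ψ, hψ⟩ := exists_isADExt hM hθ hcov E
    have : (fun h : ↥(N ⊔ E) => f h) = ψ := funext (F1 _ le_sup_left ψ hψ)
    rw [this]
    exact hψ.1
  obtain ⟨χ, hχ, hcon⟩ := ad_F2 hM N hθ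
  have hfres : (fun n : N => f n) = (θ : N → ℂ) := funext hfN
  have hf1 : f 1 = (θ : N → ℂ) 1 := hfN 1
  have hχf : (χ : G → ℂ) = f := by
    refine ad_unique hM N (ad_not_dvd_index N hcov) (adGood p N) hcov hfirr ?_ χ.2 ?_ ?_ ?_
    · rw [hfres]; exact θ.2
    · rw [hfres]; exact hcon
    · intro c hc
      rw [hf1]
      exact (hΨ c).2.2 ⟨c, hgmem c⟩ hc
    · intro c hc
      exact ad_ratio_good hM N hχ hc
  refine ⟨χ, hχ, fun n => ?_⟩
  rw [hχf]
  exact hfN n


/-- two principal block characters over the same `θ`, one of them extending it, coincide -/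
theorem ad_unique_block [Finite G] (hM : IsPModular p M) (N : Subgroup G) [hN : N.Normal]
    (hcov : ∀ x : G, ∃ n ∈ N, ∃ c ∈ adGood p N, x = n * c) [Fintype N]
    {θ : IrrCharacter N} {χ χ' : IrrCharacter G} (hχ : χ ∈ principalBlock M G)
    (hχ' : χ' ∈ principalBlock M G) (hext : ∀ n : N, (χ' : G → ℂ) n = (θ : N → ℂ) n)
    (hcon : classInner (fun n : N => (χ : G → ℂ) n) (θ : N → ℂ) ≠ 0) : χ = χ' := by
  have hres : (fun n : N => (χ' : G → ℂ) n) = (θ : N → ℂ) := funext hext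
  apply Subtype.ext
  refine ad_unique hM N (ad_not_dvd_index N hcov) (adGood p N) hcov χ'.2 ?_ χ.2 ?_ ?_ ?_
  · rw [hres]; exact θ.2
  · rw [hres]; exact hcon
  · intro c hc
    exact ad_ratio_good hM N hχ' hc
  · intro c hc
    exact ad_ratio_good hM N hχ hc

end Cfsg.Agent.Lib.Helper1
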