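import Cfsg.Agent.Lib.Helper24.BlockRank
import Cfsg.Agent.Lib.Helper24.BlockThird
import Cfsg.Agent.Lib.Helper7.BlockOrtho
import Cfsg.Agent.Lib.Helper7.BlockNormal
import Cfsg.Agent.Lib.Helper25.Kernel2
import Cfsg.Agent.Lib.Helper25.Irr

set_option autoImplicit false
set_option linter.unusedSectionVars false

namespace Cfsg.Agent.Lib.Helper1

open Cfsg Cfsg.Agent.Lib.Helper7 Cfsg.Agent.Lib.Helper24
open scoped ComplexConjugate

universe u
variable {G : Type u} [Group G]

/-- a `p`-element commuting with a regular element, with regular product, is trivial -/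
theorem eq_one_of_commute_regular {p : ℕ} (hp : p.Prime) {a b : G} (hab : Commute a b) {k : ℕ}
    (ha : a ^ (p ^ k) = 1) (hb : ¬ p ∣ orderOf b) (hc : ¬ p ∣ orderOf (a * b)) : a = 1 := by
  have h1 : a ^ (orderOf b * orderOf (a * b)) = 1 := by
    have h2 : (a * b) ^ (orderOf b * orderOf (a * b)) = 1 := by
      rw [mul_comm, pow_mul, pow_orderOf_eq_one, one_pow]
    rw [hab.mul_pow] at h2
    rwa [pow_mul b, pow_orderOf_eq_one, one_pow, mul_one] at h2
  apply eq_one_of_pow_coprime ha h1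
  apply Nat.Coprime.pow_left
  rw [Nat.Prime.coprime_iff_not_dvd hp]
  intro h
  rcases (Nat.Prime.dvd_mul hp).1 h with h | h
  · exact hb h
  · exact hc h

variable [Finite G] {p : ℕ}

theorem regular_mem_centralizer (hp : p.Prime) (Q : Subgroup G) [Q.Normal] (hQ : IsPGroup p Q)
    (hsup : Q ⊔ Subgroup.centralizer (Q : Set G) = ⊤) {g : G} (hg : ¬ p ∣ orderOf g) :
    g ∈ Subgroup.centralizer (Q : Set G) := by
  have hP : IsPGroup p (G ⧸ Subgroup.centralizer (Q : Set G)) := by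
    apply hQ.of_surjective ((QuotientGroup.mk' (Subgroup.centralizer (Q : Set G))).comp Q.subtype)
    intro x
    obtain ⟨y, rfl⟩ := QuotientGroup.mk'_surjective _ x
    have hy : y ∈ Q ⊔ Subgroup.centralizer (Q : Set G) := hsup ▸ Subgroup.mem_top y
    have hy' : y ∈ ((Q ⊔ Subgroup.centralizer (Q : Set G) : Subgroup G) : Set G) := hy
    rw [Subgroup.normal_mul] at hy'
    obtain ⟨a, ha, b, hb, rfl⟩ := Set.mem_mul.1 hy'
    refine ⟨⟨a, ha⟩, ?_⟩
    show QuotientGroup.mk' _ a = QuotientGroup.mk' _ (a * b)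
    have hb1 : QuotientGroup.mk' (Subgroup.centralizer (Q : Set G)) b = 1 :=
      (QuotientGroup.eq_one_iff b).2 hb
    rw [map_mul, hb1, mul_one]
  obtain ⟨k, hk⟩ := hP (QuotientGroup.mk' _ g)
  have h1 : (QuotientGroup.mk' (Subgroup.centralizer (Q : Set G)) g) ^ orderOf g = 1 := by
    rw [← map_pow, pow_orderOf_eq_one, map_one]
  have h2 := eq_one_of_pow_coprime hk h1
    (Nat.Coprime.pow_left _ ((Nat.Prime.coprime_iff_not_dvd hp).2 hg))
  exact (QuotientGroup.eq_one_iff g).1 h2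

theorem regular_lift_unique (hp : p.Prime) (Q : Subgroup G) [Q.Normal] (hQ : IsPGroup p Q)
    (hsup : Q ⊔ Subgroup.centralizer (Q : Set G) = ⊤) {g₁ g₂ : G} (h₁ : ¬ p ∣ orderOf g₁)
    (h₂ : ¬ p ∣ orderOf g₂) (h : QuotientGroup.mk' Q g₁ = QuotientGroup.mk' Q g₂) : g₁ = g₂ := by
  have hu : g₂ * g₁⁻¹ ∈ Q := by
    rw [← QuotientGroup.eq_one_iff]
    show QuotientGroup.mk' Q (g₂ * g₁⁻¹) = 1
    rw [map_mul, map_inv, h, mul_inv_cancel]
  have hc : Commute (g₂ * g₁⁻¹) g₁ :=
    (Subgroup.mem_centralizer_iff.1 (regular_mem_centralizer hp Q hQ hsup h₁) _ hu)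
  obtain ⟨k, hk⟩ := hQ ⟨_, hu⟩
  have hk' : (g₂ * g₁⁻¹) ^ (p ^ k) = 1 := by
    have := congrArg Subtype.val hk
    simpa using this
  have := eq_one_of_commute_regular hp hc hk' h₁ (by simpa using h₂)
  exact (mul_inv_eq_one.1 this).symm

theorem regular_lift_exists (hp : p.Prime) (Q : Subgroup G) [Q.Normal]
    (q : G ⧸ Q) (hq : ¬ p ∣ orderOf q) :
    ∃ g : G, ¬ p ∣ orderOf g ∧ QuotientGroup.mk' Q g = q := by
  obtain ⟨g, rfl⟩ := QuotientGroup.mk'_surjective Q q
  obtain ⟨x, y, rfl, hxy, ⟨k, hk⟩, hy⟩ := exists_pPart hp g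
  refine ⟨y, hy, ?_⟩
  have h1 : QuotientGroup.mk' Q x = 1 := by
    apply eq_one_of_commute_regular hp (hxy.map (QuotientGroup.mk' Q)) (k := k)
    · rw [← map_pow, ← hk, pow_orderOf_eq_one, map_one]
    · exact fun h => hy (h.trans (orderOf_map_dvd _ y))
    · rwa [← map_mul]
  rw [map_mul, h1, one_mul]

theorem sum_regInd_quotient [Fintype G] (hp : p.Prime) (Q : Subgroup G) [Q.Normal]
    [Fintype (G ⧸ Q)] (hQ : IsPGroup p Q)
    (hsup : Q ⊔ Subgroup.centralizer (Q : Set G) = ⊤) (F : G ⧸ Q → ℂ) :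
    ∑ g : G, regInd p G g * F (QuotientGroup.mk' Q g) = ∑ q : G ⧸ Q, regInd p (G ⧸ Q) q * F q := by
  classical
  have e1 : ∀ g : G, regInd p G g * F (QuotientGroup.mk' Q g)
      = if ¬ p ∣ orderOf g then F (QuotientGroup.mk' Q g) else 0 := by
    intro g
    by_cases hg : p ∣ orderOf g
    · rw [regInd_of_singular hg, if_neg (not_not.2 hg), zero_mul]
    · rw [regInd_of_regular hg, if_pos hg, one_mul]
  have e2 : ∀ q : G ⧸ Q, regInd p (G ⧸ Q) q * F q = if ¬ p ∣ orderOf q then F q else 0 := by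
    intro g
    by_cases hg : p ∣ orderOf g
    · rw [regInd_of_singular hg, if_neg (not_not.2 hg), zero_mul]
    · rw [regInd_of_regular hg, if_pos hg, one_mul]
  rw [Finset.sum_congr rfl (fun g _ => e1 g), Finset.sum_congr rfl (fun g _ => e2 g),
    ← Finset.sum_filter, ← Finset.sum_filter]
  apply Finset.sum_bij (fun g _ => QuotientGroup.mk' Q g)
  · intro g hg
    rw [Finset.mem_filter] at hg ⊢
    exact ⟨Finset.mem_univ _, fun h => hg.2 (h.trans (orderOf_map_dvd _ g))⟩
  · intro g₁ h₁ g₂ h₂ h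
    rw [Finset.mem_filter] at h₁ h₂
    exact regular_lift_unique hp Q hQ hsup h₁.2 h₂.2 h
  · intro q hq
    rw [Finset.mem_filter] at hq
    obtain ⟨g, hg, rfl⟩ := regular_lift_exists hp Q q hq.2
    exact ⟨g, Finset.mem_filter.2 ⟨Finset.mem_univ _, hg⟩, rfl⟩
  · intro g _
    rfl

/-- inflation of irreducible characters -/
noncomputable def inflIrr (Q : Subgroup G) [Q.Normal] (ψ : IrrCharacter (G ⧸ Q)) :
    IrrCharacter G :=
  ⟨fun g => (ψ : G ⧸ Q → ℂ) (QuotientGroup.mk' Q g),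
    Helper25.isIrrCharacter_comp_surjective _ (QuotientGroup.mk'_surjective Q) ψ.2⟩

theorem inflIrr_apply (Q : Subgroup G) [Q.Normal] (ψ : IrrCharacter (G ⧸ Q)) (g : G) :
    (inflIrr Q ψ : G → ℂ) g = (ψ : G ⧸ Q → ℂ) (QuotientGroup.mk' Q g) := rfl

theorem inflIrr_injective (Q : Subgroup G) [Q.Normal] : Function.Injective (inflIrr Q) := by
  intro ψ₁ ψ₂ h
  apply Subtype.ext
  funext q
  obtain ⟨g, rfl⟩ := QuotientGroup.mk'_surjective Q q
  exact congrFun (congrArg Subtype.val h) g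

theorem mem_range_inflIrr (Q : Subgroup G) [Q.Normal] (χ : IrrCharacter G) :
    χ ∈ Set.range (inflIrr Q) ↔ ∀ u ∈ Q, (χ : G → ℂ) u = (χ : G → ℂ) 1 := by
  constructor
  · rintro ⟨ψ, rfl⟩ u hu
    rw [inflIrr_apply, inflIrr_apply, map_one]
    have h1 : QuotientGroup.mk' Q u = 1 := (QuotientGroup.eq_one_iff u).2 hu
    rw [h1]
  · intro h
    obtain ⟨ψ, hψ⟩ := exists_quotient_char χ Q h
    refine ⟨ψ, ?_⟩
    apply Subtype.ext
    funext g
    exact (hψ g).symm

theorem inflIrr_mem_principalBlock {M : Ideal AlgInt} (hM : IsPModular p M) (Q : Subgroup G)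
    [Q.Normal] (hQ : IsPGroup p Q) (hsup : Q ⊔ Subgroup.centralizer (Q : Set G) = ⊤)
    (ψ : IrrCharacter (G ⧸ Q)) :
    inflIrr Q ψ ∈ principalBlock M G ↔ ψ ∈ principalBlock M (G ⧸ Q) := by
  classical
  haveI := Fintype.ofFinite G
  haveI := Fintype.ofFinite (G ⧸ Q)
  rw [mem_principalBlock_iff hM, mem_principalBlock_iff hM]
  have : Om (regInd p G) (inflIrr Q ψ) = Om (regInd p (G ⧸ Q)) ψ := by
    rw [Om, Om, ← sum_regInd_quotient hM.1 Q hQ hsup]
    rfl
  rw [this]

/-- the key identity of squared norms at a regular element -/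
theorem sum_sq_regular_quotient {M : Ideal AlgInt} (hM : IsPModular p M) (Q : Subgroup G)
    [Q.Normal] (hQ : IsPGroup p Q) (hsup : Q ⊔ Subgroup.centralizer (Q : Set G) = ⊤)
    [Fintype (IrrCharacter G)] [Fintype (IrrCharacter (G ⧸ Q))] {g : G} (hg : ¬ p ∣ orderOf g) :
    ∑ χ : IrrCharacter G, (principalBlock M G).indicator
        (fun χ => (χ : G → ℂ) g * conj ((χ : G → ℂ) g)) χ
      = (Nat.card Q : ℂ) * ∑ ψ : IrrCharacter (G ⧸ Q), (principalBlock M (G ⧸ Q)).indicator
        (fun ψ => (ψ : G ⧸ Q → ℂ) (QuotientGroup.mk' Q g)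
          * conj ((ψ : G ⧸ Q → ℂ) (QuotientGroup.mk' Q g))) ψ := by
  classical
  haveI := Fintype.ofFinite G
  haveI := Fintype.ofFinite Q
  haveI := hM.2.1.isPrime
  haveI : Fact p.Prime := ⟨hM.1⟩
  have hNc : (Nat.card Q : ℂ) ≠ 0 := by exact_mod_cast Nat.card_pos.ne'
  -- orthogonality
  have horth : ∀ u : Q, u ≠ 1 → ∑ χ : IrrCharacter G, (principalBlock M G).indicator
      (fun χ => (χ : G → ℂ) ((u : G) * g) * (χ : G → ℂ) g⁻¹) χ = 0 := by
    intro u hu
    rw [← finsum_mem_eq_sum_indicator]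
    obtain ⟨k, hk⟩ := (IsPGroup.iff_orderOf.1 hQ) u
    apply block_orthogonality hM isPBlock_principalBlock (x := (u : G)) (y := 1)
    · refine ⟨g, rfl, ?_, ⟨k, by rw [Subgroup.orderOf_coe, hk]⟩, hg⟩
      exact (Subgroup.mem_centralizer_iff.1 (regular_mem_centralizer hM.1 Q hQ hsup hg) _ u.2)
    · exact ⟨g, one_mul g, Commute.one_left g, ⟨0, by simp⟩, hg⟩
    · intro h
      apply hu
      have := isConj_one_left.1 h
      exact Subtype.ext this
  have h1 : ∑ u : Q, ∑ χ : IrrCharacter G, (principalBlock M G).indicator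
      (fun χ => (χ : G → ℂ) ((u : G) * g) * (χ : G → ℂ) g⁻¹) χ
      = ∑ χ : IrrCharacter G, (principalBlock M G).indicator
        (fun χ => (χ : G → ℂ) g * conj ((χ : G → ℂ) g)) χ := by
    rw [Finset.sum_eq_single (1 : Q) (fun u _ hu => horth u hu)
      (fun h => absurd (Finset.mem_univ _) h)]
    apply Finset.sum_congr rfl
    intro χ _
    congr 1
    funext χ
    rw [Subgroup.coe_one, one_mul, char_inv_eq_conj (Helper7.isCharacter_of_irr χ.2)]
  rw [← h1, Finset.sum_comm]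
  have h2 : ∀ χ : IrrCharacter G, ∑ u : Q, (principalBlock M G).indicator
      (fun χ => (χ : G → ℂ) ((u : G) * g) * (χ : G → ℂ) g⁻¹) χ
      = (Nat.card Q : ℂ) * (if χ ∈ Set.range (inflIrr Q) then (principalBlock M G).indicator
        (fun χ => (χ : G → ℂ) g * conj ((χ : G → ℂ) g)) χ else 0) := by
    intro χ
    by_cases hχ : χ ∈ principalBlock M G
    · simp only [Set.indicator_of_mem hχ]
      rw [← Finset.sum_mul]
      have h3 := Helper25.avg_normal Q χ.2 g
      have h4 : ∑ n : Q, (χ : G → ℂ) ((n : G) * g) = (Nat.card Q : ℂ) *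
          (if (∀ n ∈ Q, (χ : G → ℂ) n = (χ : G → ℂ) 1) then (χ : G → ℂ) g else 0) := by
        rw [← h3, ← mul_assoc, mul_inv_cancel₀ hNc, one_mul]
      rw [h4, char_inv_eq_conj (Helper7.isCharacter_of_irr χ.2)]
      by_cases hk : χ ∈ Set.range (inflIrr Q)
      · rw [if_pos hk, if_pos ((mem_range_inflIrr Q χ).1 hk), mul_assoc]
      · rw [if_neg hk, if_neg (fun h => hk ((mem_range_inflIrr Q χ).2 h))]
        simp
    · simp only [Set.indicator_of_notMem hχ]
      simp
  rw [Finset.sum_congr rfl (fun χ _ => h2 χ), ← Finset.mul_sum]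
  congr 1
  symm
  apply Fintype.sum_of_injective (inflIrr Q) (inflIrr_injective Q)
  · intro χ hχ
    rw [if_neg hχ]
  · intro ψ
    rw [if_pos ⟨ψ, rfl⟩]
    by_cases hψ : ψ ∈ principalBlock M (G ⧸ Q)
    · rw [Set.indicator_of_mem hψ,
        Set.indicator_of_mem ((inflIrr_mem_principalBlock hM Q hQ hsup ψ).2 hψ)]
      rfl
    · rw [Set.indicator_of_notMem hψ,
        Set.indicator_of_notMem (fun h => hψ ((inflIrr_mem_principalBlock hM Q hQ hsup ψ).1 h))]

theorem blockRank_principal_eq_sum {M : Ideal AlgInt} (hM : IsPModular p M) [Fintype G]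
    [Fintype (IrrCharacter G)] :
    (blockRank p (principalBlock M G) : ℂ) = (Nat.card G : ℂ)⁻¹ * ∑ g : G, regInd p G g *
      ∑ χ : IrrCharacter G, (principalBlock M G).indicator
        (fun χ => (χ : G → ℂ) g * conj ((χ : G → ℂ) g)) χ := by
  classical
  haveI := hM.2.1.isPrime
  rw [blockRank_eq_sum hM (isBlockUnion_of_isPBlock isPBlock_principalBlock)]
  simp only [Finset.mul_sum]
  rw [Finset.sum_comm]
  apply Finset.sum_congr rfl
  intro χ _
  by_cases hχ : χ ∈ principalBlock M G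
  · simp only [Set.indicator_of_mem hχ]
    rw [classInner, Finset.mul_sum]
    apply Finset.sum_congr rfl
    intro g _
    congr 1
    rw [← mul_assoc]
    congr 1
    by_cases hg : p ∣ orderOf g
    · rw [regInd_of_singular hg, zero_mul]
      simp [pRegularPart, IsPRegular, hg]
    · rw [regInd_of_regular hg, one_mul]
      simp [pRegularPart, IsPRegular, hg]
  · simp only [Set.indicator_of_notMem hχ]
    simp

/-- `l(B₀(G)) = l(B₀(G/Q))` for a normal `p`-subgroup `Q` with `G = Q C_G(Q)`. -/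
theorem blockRank_principal_quotient {M : Ideal AlgInt} (hM : IsPModular p M) (Q : Subgroup G)
    [Q.Normal] (hQ : IsPGroup p Q) (hsup : Q ⊔ Subgroup.centralizer (Q : Set G) = ⊤) :
    blockRank p (principalBlock M G) = blockRank p (principalBlock M (G ⧸ Q)) := by
  classical
  haveI := Fintype.ofFinite G
  haveI := Fintype.ofFinite (G ⧸ Q)
  haveI := Fintype.ofFinite (IrrCharacter G)
  haveI := Fintype.ofFinite (IrrCharacter (G ⧸ Q))
  have hNc : (Nat.card Q : ℂ) ≠ 0 := by exact_mod_cast Nat.card_pos.ne'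
  have hGc : (Nat.card (G ⧸ Q) : ℂ) ≠ 0 := by exact_mod_cast Nat.card_pos.ne'
  have key : (blockRank p (principalBlock M G) : ℂ) = blockRank p (principalBlock M (G ⧸ Q)) := by
    rw [blockRank_principal_eq_sum hM, blockRank_principal_eq_sum hM,
      ← sum_regInd_quotient hM.1 Q hQ hsup]
    have h1 : ∀ g : G, regInd p G g * ∑ χ : IrrCharacter G, (principalBlock M G).indicator
        (fun χ => (χ : G → ℂ) g * conj ((χ : G → ℂ) g)) χ
        = (Nat.card Q : ℂ) * (regInd p G g *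
          ∑ ψ : IrrCharacter (G ⧸ Q), (principalBlock M (G ⧸ Q)).indicator
          (fun ψ => (ψ : G ⧸ Q → ℂ) (QuotientGroup.mk' Q g)
            * conj ((ψ : G ⧸ Q → ℂ) (QuotientGroup.mk' Q g))) ψ) := by
      intro g
      by_cases hg : p ∣ orderOf g
      · rw [regInd_of_singular hg, zero_mul, zero_mul, mul_zero]
      · rw [sum_sq_regular_quotient hM Q hQ hsup hg]
        ring
    rw [Finset.sum_congr rfl (fun g _ => h1 g), ← Finset.mul_sum, ← mul_assoc]
    congr 1
    rw [Subgroup.card_eq_card_quotient_mul_card_subgroup Q]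
    push_cast
    field_simp
  exact_mod_cast key

end Cfsg.Agent.Lib.Helper1
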