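import Mathlib
import Cfsg.Agent.Lib.Helper1.AlperinDade
import Cfsg.Agent.Lib.Helper11.GalChar
import Cfsg.Agent.Lib.Helper7.BlockNormal
import Cfsg.Agent.S0161

/-! Galois automorphisms of 2-power order inverting odd roots of unity, and odd index. -/

set_option autoImplicit false
set_option linter.style.haveILetI false

namespace Cfsg.Agent.Lib.Helper1

open Cfsg Cfsg.Agent.Lib.Helper7 Cfsg.Agent.Lib.Helper24
open scoped ComplexConjugate

universe u
variable {G : Type u} [Group G]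

/-- hypotheses on the exponent `k` -/
structure SigHyp (G : Type u) [Group G] (k e : ℕ) : Prop where
  cop : Nat.Coprime k (Nat.card G)
  ord : k ^ (2 ^ e) ≡ 1 [MOD Nat.card G]
  inv : ∀ g : G, Odd (orderOf g) → g ^ k = g⁻¹

theorem SigHyp.subgroup [Finite G] {k e : ℕ} (h : SigHyp G k e) (H : Subgroup G) : SigHyp H k e where
  cop := Nat.Coprime.coprime_dvd_right (Subgroup.card_subgroup_dvd_card H) h.cop
  ord := h.ord.of_dvd (Subgroup.card_subgroup_dvd_card H)
  inv := by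
    intro g hg
    apply Subtype.ext
    rw [Subgroup.coe_pow, Subgroup.coe_inv]
    exact h.inv g (by rwa [Subgroup.orderOf_coe])

/-- the Galois conjugate of an irreducible character -/
noncomputable def powIrr [Finite G] {k : ℕ} (hk : Nat.Coprime k (Nat.card G)) (χ : IrrCharacter G) :
    IrrCharacter G :=
  ⟨fun g => (χ : G → ℂ) (g ^ k), Cfsg.Agent.Lib.Helper11.isIrrCharacter_pow_coprime χ.2 hk⟩

theorem powIrr_apply [Finite G] {k : ℕ} (hk : Nat.Coprime k (Nat.card G)) (χ : IrrCharacter G)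
    (g : G) : (powIrr hk χ : G → ℂ) g = (χ : G → ℂ) (g ^ k) := rfl

theorem classInner_pow [Fintype G] {k : ℕ} (hk : Nat.Coprime k (Nat.card G)) (a b : G → ℂ) :
    classInner (fun g => a (g ^ k)) (fun g => b (g ^ k)) = classInner a b := by
  unfold classInner
  congr 1
  exact Fintype.sum_equiv (powCoprime hk.symm) _ _ (fun n => rfl)

theorem sig_pow_succ_mem [Finite G] (N : Subgroup G) [N.Normal] (hidx : Odd N.index) {k e : ℕ}
    (hk : SigHyp G k e) (g : G) : g ^ (k + 1) ∈ N := by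
  obtain ⟨a, m, hm, ho⟩ := Nat.exists_eq_two_pow_mul_odd (orderOf_pos g).ne'
  have h1 : orderOf (g ^ (2 ^ a)) = m := by
    rw [orderOf_pow_of_dvd (by positivity) (by rw [ho]; exact Dvd.intro _ rfl), ho,
      Nat.mul_div_cancel_left _ (by positivity)]
  have h2 := hk.inv (g ^ (2 ^ a)) (h1 ▸ hm)
  have h3 : (g ^ (k + 1)) ^ (2 ^ a) = 1 := by
    rw [← pow_mul, mul_comm, pow_mul, pow_succ, h2, inv_mul_cancel]
  have h4 : orderOf (QuotientGroup.mk' N (g ^ (k + 1))) ∣ 2 ^ a := by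
    apply orderOf_dvd_of_pow_eq_one
    rw [← map_pow, h3, map_one]
  have h5 : orderOf (QuotientGroup.mk' N (g ^ (k + 1))) ∣ N.index := by
    rw [Subgroup.index_eq_card]; exact orderOf_dvd_natCard _
  have hcop : N.index.Coprime 2 := Nat.Coprime.symm (Nat.coprime_two_left.2 hidx)
  have h6 := Nat.dvd_gcd h5 h4
  rw [(hcop.pow_right a : Nat.gcd _ _ = 1), Nat.dvd_one, orderOf_eq_one_iff] at h6
  rwa [← MonoidHom.mem_ker, QuotientGroup.ker_mk'] at h6

theorem sig_ker_pow [Finite G] (N : Subgroup G) [N.Normal] (hidx : Odd N.index) {k e : ℕ}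
    (hk : SigHyp G k e) {β : G → ℂ} (hβ : IsCharacter G β) (hker : ∀ n ∈ N, β n = β 1) (g : G) :
    β (g ^ k) = conj (β g) := by
  have h1 : g ^ k = g ^ (k + 1) * g⁻¹ := by rw [pow_succ, mul_inv_cancel_right]
  rw [h1, Cfsg.Agent.Lib.Helper25.char_mul_of_mem_ker hβ (hker _ (sig_pow_succ_mem N hidx hk g)),
    char_inv_eq_conj hβ]

theorem sig_trivial [Finite G] (N : Subgroup G) [N.Normal] (hidx : Odd N.index) {k e : ℕ}
    (hk : SigHyp G k e) (β : IrrCharacter G) (hker : ∀ n ∈ N, (β : G → ℂ) n = (β : G → ℂ) 1)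
    (hfix : powIrr hk.cop β = β) : β = oneIrr G := by
  obtain ⟨ψ, hψ⟩ := exists_quotient_char β N hker
  have hreal : ∀ q : G ⧸ N, ((ψ : G ⧸ N → ℂ) q).im = 0 := by
    intro q
    obtain ⟨g, rfl⟩ := QuotientGroup.mk_surjective q
    rw [← hψ]
    have h1 := sig_ker_pow N hidx hk (Helper7.isCharacter_of_irr β.2) hker g
    have h2 : (β : G → ℂ) (g ^ k) = (β : G → ℂ) g := by
      conv_rhs => rw [← hfix]
      rfl
    rw [h2] at h1
    exact Complex.conj_eq_iff_im.1 h1.symm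
  have hodd : Odd (Nat.card (G ⧸ N)) := by rwa [← Subgroup.index_eq_card]
  have h3 := Cfsg.Agent.S0161.result hodd ψ hreal
  apply Subtype.ext
  funext g
  rw [hψ, h3]
  rfl

theorem indFun_one_pow [Fintype G] (N : Subgroup G) {k : ℕ} (hk : Nat.Coprime k (Nat.card G))
    (g : G) : indFun N (fun _ => (1 : ℂ)) (g ^ k) = indFun N (fun _ => (1 : ℂ)) g := by
  rw [Cfsg.Agent.Lib.Helper25.indFun_apply, Cfsg.Agent.Lib.Helper25.indFun_apply]
  congr 1
  apply Finset.sum_congr rfl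
  intro x _
  have h1 : x⁻¹ * g ^ k * x = (x⁻¹ * g * x) ^ k := by
    have := conj_pow (a := x⁻¹) (b := g) (i := k)
    rw [inv_inv] at this
    exact this.symm
  rw [h1]
  by_cases hy : x⁻¹ * g * x ∈ N
  · rw [Cfsg.Agent.Lib.Helper25.extendByZero_mem N _ hy,
      Cfsg.Agent.Lib.Helper25.extendByZero_mem N _ (N.pow_mem hy k)]
  · have hy' : (x⁻¹ * g * x) ^ k ∉ N := by
      intro h
      apply hy
      have hc : Nat.Coprime k (orderOf (x⁻¹ * g * x)) :=
        Nat.Coprime.coprime_dvd_right (orderOf_dvd_natCard _) hk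
      obtain ⟨m, hm⟩ := exists_pow_eq_self_of_coprime hc
      rw [← hm]
      exact N.pow_mem h m
    rw [Cfsg.Agent.Lib.Helper25.extendByZero_not_mem N _ hy,
      Cfsg.Agent.Lib.Helper25.extendByZero_not_mem N _ hy']

/-- the parity lemma -/
theorem sig_parity [Fintype G] (N : Subgroup G) [hN : N.Normal] [Fintype N] (hidx : Odd N.index)
    {k e : ℕ} (hk : SigHyp G k e) (χ₁ χ₂ : IrrCharacter G)
    (h₁ : ∀ g : G, (χ₁ : G → ℂ) (g ^ k) = (χ₁ : G → ℂ) g)
    (h₂ : ∀ g : G, (χ₂ : G → ℂ) (g ^ k) = (χ₂ : G → ℂ) g) :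
    ∃ A : ℕ, classInner (fun n : N => (χ₁ : G → ℂ) n) (fun n : N => (χ₂ : G → ℂ) n) = A ∧
      (Odd A ↔ χ₁ = χ₂) := by
  classical
  haveI : Fintype (IrrCharacter G) := Fintype.ofFinite _
  have hI : IsCharacter G (indFun N (fun _ => (1 : ℂ))) :=
    Cfsg.Agent.Lib.Helper25.isCharacter_indFun N _ (Helper7.isCharacter_of_irr (oneIrr N).2)
  obtain ⟨m, hm, hsum⟩ := character_eq_sum_nat hI
  choose c hc using fun β : IrrCharacter G => classInner_char_nat
    (isCharacter_mul (Helper7.isCharacter_of_irr β.2) (Helper7.isCharacter_of_irr χ₁.2))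
    (Helper7.isCharacter_of_irr χ₂.2)
  have hcf₁ := isClassFunction_irr χ₁
  have hcf₂ := isClassFunction_irr χ₂
  have key : classInner (fun n : N => (χ₁ : G → ℂ) n) (fun n : N => (χ₂ : G → ℂ) n)
      = ((∑ β : IrrCharacter G, m β * c β : ℕ) : ℂ) := by
    rw [← Cfsg.Agent.Lib.Helper25.frobenius_reciprocity N _ _ hcf₂]
    have hone : (fun n : N => (χ₁ : G → ℂ) n) = (fun _ => 1 : N → ℂ) * fun n : N => (χ₁ : G → ℂ) n := by
      funext n; simp
    rw [hone, Cfsg.Agent.Lib.Helper25.indFun_mul_restrict N _ hcf₁]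
    conv_lhs => rw [hsum]
    rw [Finset.sum_mul, Helper7.classInner_sum_left]
    push_cast
    apply Finset.sum_congr rfl
    intro β _
    rw [smul_mul_assoc, ← Nat.cast_smul_eq_nsmul ℂ, Helper7.classInner_smul_left, hc]
  refine ⟨_, key, ?_⟩
  have hmpow : ∀ β : IrrCharacter G, m (powIrr hk.cop β) = m β := by
    intro β
    have h1 : (m (powIrr hk.cop β) : ℂ) = m β := by
      rw [← hm, ← hm, ← classInner_pow hk.cop (indFun N (fun _ => (1 : ℂ))) (β : G → ℂ)]
      congr 1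
      funext g
      exact (indFun_one_pow N hk.cop g).symm
    exact_mod_cast h1
  have hcpow : ∀ β : IrrCharacter G, c (powIrr hk.cop β) = c β := by
    intro β
    have h1 : (c (powIrr hk.cop β) : ℂ) = c β := by
      rw [← hc, ← hc, ← classInner_pow hk.cop ((β : G → ℂ) * (χ₁ : G → ℂ)) (χ₂ : G → ℂ)]
      congr 1
      · funext g
        simp only [Pi.mul_apply, powIrr_apply, h₁]
      · funext g
        exact (h₂ g).symm
    exact_mod_cast h1
  have hker : ∀ β : IrrCharacter G, m β ≠ 0 → ∀ n ∈ N, (β : G → ℂ) n = (β : G → ℂ) 1 := by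
    intro β hβ
    apply Cfsg.Agent.Lib.Helper25.ker_of_constituent_indFun_one N β.2
    rw [hm]
    exact_mod_cast hβ
  have hm1 : m (oneIrr G) = 1 := by
    have h1 : (m (oneIrr G) : ℂ) = 1 := by
      rw [← hm, Cfsg.Agent.Lib.Helper25.frobenius_reciprocity N _ _ (isClassFunction_irr (oneIrr G))]
      exact classInner_irr_self (oneIrr N).2
    exact_mod_cast h1
  have hc1 : c (oneIrr G) = if χ₁ = χ₂ then 1 else 0 := by
    have h1 : (c (oneIrr G) : ℂ) = if χ₁ = χ₂ then 1 else 0 := by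
      rw [← hc]
      have : ((oneIrr G : G → ℂ) * (χ₁ : G → ℂ)) = (χ₁ : G → ℂ) := by
        funext g
        show (1 : ℂ) * _ = _
        rw [one_mul]
      rw [this, classInner_irr χ₁.2 χ₂.2]
      by_cases h : χ₁ = χ₂
      · rw [if_pos h, if_pos (congrArg Subtype.val h)]
      · rw [if_neg h, if_neg (fun h' => h (Subtype.ext h'))]
    by_cases h : χ₁ = χ₂
    · rw [if_pos h] at h1 ⊢; exact_mod_cast h1
    · rw [if_neg h] at h1 ⊢; exact_mod_cast h1
  let s : Finset (IrrCharacter G) := Finset.univ.filter (fun β => β ≠ oneIrr G ∧ m β ≠ 0)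
  have hs0 : ∑ β ∈ s, ((m β * c β : ℕ) : ZMod 2) = 0 := by
    apply Finset.sum_involution (fun β _ => powIrr hk.cop β)
    · intro β _
      rw [hmpow, hcpow]
      exact CharTwo.add_self_eq_zero _
    · intro β hβ _ hfix
      have hβ' := (Finset.mem_filter.1 hβ).2
      exact hβ'.1 (sig_trivial N hidx hk β (hker β hβ'.2) hfix)
    · intro β hβ
      have hβ' := (Finset.mem_filter.1 hβ).2
      refine Finset.mem_filter.2 ⟨Finset.mem_univ _, ?_, by rw [hmpow]; exact hβ'.2⟩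
      intro h1
      apply hβ'.1
      apply Subtype.ext
      funext g
      obtain ⟨y, hy⟩ := (powCoprime hk.cop.symm).surjective g
      have h2 : y ^ k = g := hy
      rw [← h2, ← powIrr_apply hk.cop β y, h1]
      rfl
    · intro β hβ
      have hβ' := (Finset.mem_filter.1 hβ).2
      apply Subtype.ext
      funext g
      rw [powIrr_apply, powIrr_apply,
        sig_ker_pow N hidx hk (Helper7.isCharacter_of_irr β.2) (hker β hβ'.2),
        sig_ker_pow N hidx hk (Helper7.isCharacter_of_irr β.2) (hker β hβ'.2), Complex.conj_conj]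
  have htot : ((∑ β : IrrCharacter G, m β * c β : ℕ) : ZMod 2) = ((c (oneIrr G) : ℕ) : ZMod 2) := by
    rw [Nat.cast_sum, ← Finset.add_sum_erase _ _ (Finset.mem_univ (oneIrr G)), hm1, one_mul]
    have h3 : ∑ β ∈ Finset.univ.erase (oneIrr G), ((m β * c β : ℕ) : ZMod 2)
        = ∑ β ∈ s, ((m β * c β : ℕ) : ZMod 2) := by
      symm
      apply Finset.sum_subset
      · intro β hβ
        exact Finset.mem_erase.2 ⟨(Finset.mem_filter.1 hβ).2.1, Finset.mem_univ _⟩
      · intro β hβ hβs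
        have h4 : m β = 0 := by
          by_contra h5
          exact hβs (Finset.mem_filter.2 ⟨Finset.mem_univ _, (Finset.mem_erase.1 hβ).1, h5⟩)
        rw [h4, zero_mul, Nat.cast_zero]
    rw [h3, hs0, add_zero]
  rw [← ZMod.natCast_eq_one_iff_odd, htot, hc1]
  by_cases h : χ₁ = χ₂
  · simp [h]
  · simp [h]

/-- uniqueness of the fixed character over `θ` -/
theorem sig_unique [Fintype G] (N : Subgroup G) [hN : N.Normal] [Fintype N] (hidx : Odd N.index)
    {k e : ℕ} (hk : SigHyp G k e) (θ : IrrCharacter N) (χ₁ χ₂ : IrrCharacter G)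
    (h₁ : ∀ g : G, (χ₁ : G → ℂ) (g ^ k) = (χ₁ : G → ℂ) g)
    (h₂ : ∀ g : G, (χ₂ : G → ℂ) (g ^ k) = (χ₂ : G → ℂ) g)
    (hc₁ : classInner (fun n : N => (χ₁ : G → ℂ) n) (θ : N → ℂ) ≠ 0)
    (hc₂ : classInner (fun n : N => (χ₂ : G → ℂ) n) (θ : N → ℂ) ≠ 0) : χ₁ = χ₂ := by
  classical
  obtain ⟨A11, e11, o11⟩ := sig_parity N hidx hk χ₁ χ₁ h₁ h₁
  obtain ⟨A22, e22, o22⟩ := sig_parity N hidx hk χ₂ χ₂ h₂ h₂
  obtain ⟨A12, e12, o12⟩ := sig_parity N hidx hk χ₁ χ₂ h₁ h₂
  have hr₁ := Cfsg.Agent.Lib.Helper25.clifford' N χ₁.2 θ.2 hc₁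
  have hr₂ := Cfsg.Agent.Lib.Helper25.clifford' N χ₂.2 θ.2 hc₂
  obtain ⟨n₁, hn₁⟩ := classInner_char_nat
    (isCharacter_restrict (Helper7.isCharacter_of_irr χ₁.2) N) (Helper7.isCharacter_of_irr θ.2)
  obtain ⟨n₂, hn₂⟩ := classInner_char_nat
    (isCharacter_restrict (Helper7.isCharacter_of_irr χ₂.2) N) (Helper7.isCharacter_of_irr θ.2)
  rw [hn₁] at hr₁
  rw [hn₂] at hr₂
  rw [hr₁, Helper7.classInner_smul_left, Helper7.classInner_smul_right] at e11
  rw [hr₂, Helper7.classInner_smul_left, Helper7.classInner_smul_right] at e22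
  rw [hr₁, hr₂, Helper7.classInner_smul_left, Helper7.classInner_smul_right] at e12
  simp only [Complex.conj_natCast] at e11 e22 e12
  have h3 : ((A12 * A12 : ℕ) : ℂ) = ((A11 * A22 : ℕ) : ℂ) := by
    push_cast
    rw [← e11, ← e22, ← e12]
    ring
  have h4 : A12 * A12 = A11 * A22 := by exact_mod_cast h3
  have h5 : Odd (A12 * A12) := by
    rw [h4]
    exact (o11.2 rfl).mul (o22.2 rfl)
  exact o12.1 (Nat.odd_mul.1 h5).1

theorem powIrr_iterate [Finite G] {k : ℕ} (hk : Nat.Coprime k (Nat.card G)) (j : ℕ)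
    (χ : IrrCharacter G) (g : G) :
    (((powIrr hk)^[j] χ : IrrCharacter G) : G → ℂ) g = (χ : G → ℂ) (g ^ (k ^ j)) := by
  induction j generalizing g with
  | zero => simp
  | succ j ih =>
    rw [Function.iterate_succ_apply', powIrr_apply, ih, ← pow_mul, pow_succ, mul_comm]

/-- a fixed point lemma -/
theorem sig_exists_fixed [Finite G] {k e : ℕ} (hk : SigHyp G k e) [Fintype (IrrCharacter G)]
    (S : Set (IrrCharacter G)) [DecidablePred (· ∈ S)]
    (hS : ∀ χ, χ ∈ S → powIrr hk.cop χ ∈ S) (a : IrrCharacter G → ℕ)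
    (ha : ∀ χ, a (powIrr hk.cop χ) = a χ)
    (hodd : Odd (∑ χ ∈ Finset.univ.filter (· ∈ S), a χ ^ 2)) :
    ∃ χ ∈ S, powIrr hk.cop χ = χ ∧ Odd (a χ) := by
  classical
  let α := {χ : IrrCharacter G // χ ∈ S ∧ Odd (a χ)}
  let f : Function.End α := fun x => ⟨powIrr hk.cop x.1, hS _ x.2.1, by rw [ha]; exact x.2.2⟩
  have hfit : ∀ (j : ℕ) (x : α), ((f ^ j) x).1 = (powIrr hk.cop)^[j] x.1 := by
    intro j
    induction j with
    | zero => intro x; rfl
    | succ j ih =>
      intro x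
      rw [pow_succ', Function.iterate_succ_apply']
      show powIrr hk.cop ((f ^ j) x).1 = _
      rw [ih]
  have hf : f ^ 2 ^ e = 1 := by
    funext x
    apply Subtype.ext
    rw [hfit]
    apply Subtype.ext
    funext g
    rw [powIrr_iterate]
    show (x.1 : G → ℂ) _ = (x.1 : G → ℂ) g
    have h1 : k ^ (2 ^ e) ≡ 1 [MOD orderOf g] := hk.ord.of_dvd (orderOf_dvd_natCard g)
    have := pow_eq_pow_iff_modEq.2 h1
    rw [pow_one] at this
    rw [this]
  have h1 := Equiv.Perm.card_fixedPoints_modEq (p := 2) (n := e) hf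
  have h2 : Odd (Fintype.card α) := by
    rw [← ZMod.natCast_eq_one_iff_odd] at hodd ⊢
    rw [← hodd, Fintype.card_subtype, Finset.card_eq_sum_ones, Nat.cast_sum, Nat.cast_sum,
      Finset.sum_filter, Finset.sum_filter]
    apply Finset.sum_congr rfl
    intro χ _
    by_cases hχ : χ ∈ S
    · by_cases ho : Odd (a χ)
      · rw [if_pos ⟨hχ, ho⟩, if_pos hχ]
        have := (ZMod.natCast_eq_one_iff_odd).2 (ho.pow (n := 2))
        rw [this]; simp
      · rw [if_neg (fun h => ho h.2), if_pos hχ]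
        have h3 : Even (a χ ^ 2) := (Nat.not_odd_iff_even.1 ho).pow_of_ne_zero (by norm_num)
        rw [(ZMod.natCast_eq_zero_iff_even).2 h3]
    · rw [if_neg (fun h => hχ h.1), if_neg hχ]
  have h3 : Fintype.card (Function.fixedPoints f) ≠ 0 := by
    intro h0
    rw [h0] at h1
    have := Nat.odd_iff.1 h2
    have h4 : Fintype.card α % 2 = 0 % 2 := h1
    omega
  obtain ⟨x⟩ := Fintype.card_pos_iff.1 (Nat.pos_of_ne_zero h3)
  exact ⟨x.1.1, x.1.2.1, congrArg Subtype.val x.2, x.1.2.2⟩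

theorem indFun_pow [Fintype G] (H : Subgroup G) {k : ℕ} (hk : Nat.Coprime k (Nat.card G))
    {ψ : H → ℂ} (hψ : ∀ h : H, ψ (h ^ k) = ψ h) (g : G) :
    indFun H ψ (g ^ k) = indFun H ψ g := by
  rw [Cfsg.Agent.Lib.Helper25.indFun_apply, Cfsg.Agent.Lib.Helper25.indFun_apply]
  congr 1
  apply Finset.sum_congr rfl
  intro x _
  have h1 : x⁻¹ * g ^ k * x = (x⁻¹ * g * x) ^ k := by
    have := conj_pow (a := x⁻¹) (b := g) (i := k)
    rw [inv_inv] at this
    exact this.symm
  rw [h1]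
  by_cases hy : x⁻¹ * g * x ∈ H
  · rw [Cfsg.Agent.Lib.Helper25.extendByZero_mem H _ hy,
      Cfsg.Agent.Lib.Helper25.extendByZero_mem H _ (H.pow_mem hy k)]
    exact hψ ⟨_, hy⟩
  · have hy' : (x⁻¹ * g * x) ^ k ∉ H := by
      intro h
      apply hy
      have hc : Nat.Coprime k (orderOf (x⁻¹ * g * x)) :=
        Nat.Coprime.coprime_dvd_right (orderOf_dvd_natCard _) hk
      obtain ⟨m, hm⟩ := exists_pow_eq_self_of_coprime hc
      rw [← hm]
      exact H.pow_mem h m
    rw [Cfsg.Agent.Lib.Helper25.extendByZero_not_mem H _ hy,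
      Cfsg.Agent.Lib.Helper25.extendByZero_not_mem H _ hy']

/-- existence of a fixed character over `θ` -/
theorem sig_exists [Fintype G] (N : Subgroup G) [hN : N.Normal] [Fintype N] (hidx : Odd N.index)
    {k e : ℕ} (hk : SigHyp G k e) (θ : IrrCharacter N)
    (hθ : ∀ n : N, (θ : N → ℂ) (n ^ k) = (θ : N → ℂ) n) :
    ∃ χ : IrrCharacter G, (∀ g : G, (χ : G → ℂ) (g ^ k) = (χ : G → ℂ) g) ∧
      classInner (fun n : N => (χ : G → ℂ) n) (θ : N → ℂ) ≠ 0 := by
  classical
  haveI : Fintype (IrrCharacter G) := Fintype.ofFinite _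
  have hI : IsCharacter G (indFun N (θ : N → ℂ)) :=
    Cfsg.Agent.Lib.Helper25.isCharacter_indFun N _ (Helper7.isCharacter_of_irr θ.2)
  obtain ⟨a, ha, hsum⟩ := character_eq_sum_nat hI
  have hapow : ∀ χ : IrrCharacter G, a (powIrr hk.cop χ) = a χ := by
    intro χ
    have h1 : (a (powIrr hk.cop χ) : ℂ) = a χ := by
      rw [← ha, ← ha, ← classInner_pow hk.cop (indFun N (θ : N → ℂ)) (χ : G → ℂ)]
      congr 1
      funext g
      exact (indFun_pow N hk.cop hθ g).symm
    exact_mod_cast h1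
  let T := Cfsg.Agent.Lib.Helper25.inertia N (θ : N → ℂ)
  have hNT : N ≤ T := Cfsg.Agent.Lib.Helper25.le_inertia N (isClassFunction_irr θ)
  have hnorm : classInner (indFun N (θ : N → ℂ)) (indFun N (θ : N → ℂ))
      = ((∑ χ : IrrCharacter G, a χ ^ 2 : ℕ) : ℂ) := by
    conv_lhs => lhs; rw [hsum]
    rw [Helper7.classInner_sum_left]
    push_cast
    apply Finset.sum_congr rfl
    intro χ _
    rw [← Nat.cast_smul_eq_nsmul ℂ, Helper7.classInner_smul_left, ← Helper7.classInner_conj_symm, ha]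
    simp [sq]
  have h1 := Cfsg.Agent.Lib.Helper25.card_mul_classInner_indFun_self N θ.2 (G := G)
  have h2 : Nat.card {g : G // ∀ h : N, (θ : N → ℂ) ⟨g * h * g⁻¹, hN.conj_mem h h.2 g⟩
      = (θ : N → ℂ) h} = Nat.card T := by
    apply Nat.card_congr
    exact Equiv.subtypeEquivRight (fun g => (Cfsg.Agent.Lib.Helper25.mem_inertia N _ g).symm)
  rw [h2, hnorm] at h1
  have h3 : Nat.card N * (∑ χ : IrrCharacter G, a χ ^ 2) = Nat.card T := by exact_mod_cast h1
  have h4 : Nat.card N * N.relIndex T = Nat.card T := by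
    have := (N.subgroupOf T).card_mul_index
    rwa [Nat.card_congr (Subgroup.subgroupOfEquivOfLe hNT).toEquiv] at this
  have h5 : (∑ χ : IrrCharacter G, a χ ^ 2) = N.relIndex T :=
    Nat.eq_of_mul_eq_mul_left Nat.card_pos (h3.trans h4.symm)
  have h6 : Odd (N.relIndex T) := by
    have := Subgroup.relIndex_mul_index hNT
    rw [← this] at hidx
    exact (Nat.odd_mul.1 hidx).1
  obtain ⟨χ, -, hfix, hodd⟩ := sig_exists_fixed hk Set.univ (fun _ _ => trivial) a hapow
    (by simpa [h5] using h6)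
  refine ⟨χ, fun g => ?_, ?_⟩
  · conv_rhs => rw [← hfix]
    rfl
  · have h7 := ha χ
    rw [Cfsg.Agent.Lib.Helper25.frobenius_reciprocity N _ _ (isClassFunction_irr χ)] at h7
    rw [← Helper7.classInner_conj_symm, h7]
    simp only [Complex.conj_natCast]
    have : a χ ≠ 0 := fun h0 => by rw [h0] at hodd; exact (Nat.not_odd_iff_even.2 Even.zero) hodd
    exact_mod_cast this

/-- the cyclic step -/
theorem sig_cyclic [Finite G] (H : Subgroup G) [hH : H.Normal] (hidx : Odd H.index)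
    {k e : ℕ} (hk : SigHyp G k e) (hcyc : IsCyclic (G ⧸ H)) (η : IrrCharacter H)
    (hη : ∀ n : H, (η : H → ℂ) (n ^ k) = (η : H → ℂ) n)
    (hinv' : ∀ (g : G) (n : H), (η : H → ℂ) (MulAut.conjNormal g n) = (η : H → ℂ) n) :
    ∃ χ : IrrCharacter G, (∀ g : G, (χ : G → ℂ) (g ^ k) = (χ : G → ℂ) g) ∧
      ∀ h : H, (χ : G → ℂ) h = (η : H → ℂ) h := by
  classical
  haveI := Fintype.ofFinite G
  haveI : Fintype H := Fintype.ofFinite _
  obtain ⟨χ, hχ, hcon⟩ := sig_exists H hidx hk η hη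
  refine ⟨χ, hχ, ?_⟩
  have hcomm : ∀ a b : G ⧸ H, a * b = b * a := by
    obtain ⟨q, hq⟩ := hcyc.exists_generator
    intro a b
    obtain ⟨i, rfl⟩ := Subgroup.mem_zpowers_iff.1 (hq a)
    obtain ⟨j, rfl⟩ := Subgroup.mem_zpowers_iff.1 (hq b)
    rw [← zpow_add, ← zpow_add, add_comm]
  have hab : ∀ x y : G, x * y * x⁻¹ * y⁻¹ ∈ H := by
    intro x y
    rw [← QuotientGroup.eq_one_iff]
    simp only [QuotientGroup.mk_mul, QuotientGroup.mk_inv]
    rw [hcomm (x : G ⧸ H) (y : G ⧸ H)]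
    group
  have hinv : ∀ g : G, Cfsg.Agent.Lib.Helper25.conjFun H (η : H → ℂ) g = η := by
    intro g
    funext n
    rw [Cfsg.Agent.Lib.Helper25.conjFun_apply, ← hinv' g n]
    congr 1
  obtain ⟨ηh, hηh, hηhH⟩ := Cfsg.Agent.Lib.Helper25.exists_extension_of_cyclic_quotient H hcyc
    (η : H → ℂ) η.2 hinv'
  have hcon' : classInner (fun n : H => ηh n) (η : H → ℂ) ≠ 0 := by
    have : (fun n : H => ηh n) = (η : H → ℂ) := funext hηhH
    rw [this, classInner_irr_self η.2]
    exact one_ne_zero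
  obtain ⟨f, hf⟩ := Cfsg.Agent.Lib.Helper25.exists_linear_mul_of_abelian_quotient H hab η.2 hinv
    χ.2 hηh hcon hcon'
  have hr := Cfsg.Agent.Lib.Helper25.restrict_eq_smul_of_invariant H χ.2 η.2 hcon hinv
  have h1 : (χ : G → ℂ) 1 = (η : H → ℂ) 1 := by
    rw [hf]
    have := hηhH 1
    simp only [OneMemClass.coe_one] at this
    simp [this]
  have h2 := congrFun hr 1
  simp only [OneMemClass.coe_one, Pi.smul_apply, smul_eq_mul] at h2
  rw [h1] at h2
  have h3 : classInner (fun n : H => (χ : G → ℂ) n) (η : H → ℂ) = 1 := by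
    have h0 := irr_apply_one_ne_zero η.2
    apply mul_right_cancel₀ h0
    rw [one_mul]
    exact h2.symm
  intro h
  have h4 := congrFun hr h
  rw [h3, one_smul] at h4
  exact h4

theorem sig_solvable_aux {k e : ℕ} : ∀ (j : ℕ) (G : Type u) [Group G] [Finite G]
    (N : Subgroup G) [hN : N.Normal], N.index = j → Odd N.index → SigHyp G k e →
    Group.IsSolvable (G ⧸ N) → ∀ θ : IrrCharacter N,
    (∀ n : N, (θ : N → ℂ) (n ^ k) = (θ : N → ℂ) n) →
    (∀ (g : G) (n : N), (θ : N → ℂ) (MulAut.conjNormal g n) = (θ : N → ℂ) n) →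
    ∃ χ : IrrCharacter G, (∀ g : G, (χ : G → ℂ) (g ^ k) = (χ : G → ℂ) g) ∧
      ∀ n : N, (χ : G → ℂ) n = (θ : N → ℂ) n := by
  intro j
  induction j using Nat.strong_induction_on with
  | _ j ih =>
    intro G _ _ N hN hj hodd hk hsolv θ hθ hinv
    by_cases htriv : Subsingleton (G ⧸ N)
    · exact sig_cyclic N hodd hk isCyclic_of_subsingleton θ hθ hinv
    · rw [not_subsingleton_iff_nontrivial] at htriv
      obtain ⟨Mb, hMbn, hMbp⟩ := Helper1.exists_normal_prime_index (G := G ⧸ N)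
      let K : Subgroup G := Mb.comap (QuotientGroup.mk' N)
      haveI hMn : K.Normal := hMbn.comap _
      have hMidx : K.index = Mb.index :=
        Subgroup.index_comap_of_surjective Mb (QuotientGroup.mk'_surjective N)
      have hNM : N ≤ K := by
        intro n hn
        show QuotientGroup.mk' N n ∈ Mb
        have : QuotientGroup.mk' N n = 1 := (QuotientGroup.eq_one_iff n).2 hn
        rw [this]
        exact Mb.one_mem
      have hidx := Subgroup.relIndex_mul_index hNM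
      have hMp : K.index.Prime := hMidx ▸ hMbp
      let N' : Subgroup K := N.subgroupOf K
      have hN'idx : N'.index = N.relIndex K := rfl
      have hpos : 0 < N.relIndex K := by
        rcases Nat.eq_zero_or_pos (N.relIndex K) with h0 | h0
        · rw [h0, zero_mul] at hidx
          exact absurd hidx.symm Subgroup.index_ne_zero_of_finite
        · exact h0
      have hlt : N'.index < j := by
        rw [hN'idx, ← hj, ← hidx]
        have := hMp.one_lt
        nlinarith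
      have hodd2 := hodd
      rw [← hidx] at hodd2
      have hoddN' : Odd N'.index := (Nat.odd_mul.1 hodd2).1
      have hoddK : Odd K.index := (Nat.odd_mul.1 hodd2).2
      let e' : N' ≃* N := Subgroup.subgroupOfEquivOfLe hNM
      let θ' : IrrCharacter N' := mapIrr e' θ
      have hθ' : ∀ n : N', (θ' : N' → ℂ) (n ^ k) = (θ' : N' → ℂ) n := by
        intro n
        show (θ : N → ℂ) (e' (n ^ k)) = (θ : N → ℂ) (e' n)
        rw [map_pow, hθ]
      have hinvG : ∀ (g : G) (x : N') (y : N'), ((y : K) : G) = g * ((x : K) : G) * g⁻¹ →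
          (θ' : N' → ℂ) y = (θ' : N' → ℂ) x := by
        intro g x y hy
        show (θ : N → ℂ) (e' y) = (θ : N → ℂ) (e' x)
        rw [← hinv g (e' x)]
        apply congrArg
        apply Subtype.ext
        rw [MulAut.conjNormal_apply]
        exact hy
      have hinv' : ∀ (m : K) (x : N'), (θ' : N' → ℂ) (MulAut.conjNormal m x) = (θ' : N' → ℂ) x := by
        intro m x
        apply hinvG (m : G) x
        simp [MulAut.conjNormal_apply]
      obtain ⟨η, hη, hηN⟩ := ih _ hlt K N' rfl hoddN' (hk.subgroup K)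
        (Cfsg.Agent.Lib.Helper25.isSolvable_quotient_subgroupOf N K) θ' hθ' hinv'
      haveI : Fintype K := Fintype.ofFinite _
      haveI : Fintype N' := Fintype.ofFinite _
      have hηinv : ∀ (g : G) (m : K), (η : K → ℂ) (MulAut.conjNormal g m) = (η : K → ℂ) m := by
        intro g
        let ηg : IrrCharacter K := mapIrr (MulAut.conjNormal g : MulAut K) η
        have hextg : ∀ x : N', (ηg : K → ℂ) x = (θ' : N' → ℂ) x := by
          intro x
          have hmem : (MulAut.conjNormal g (x : K) : K) ∈ N' := by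
            show ((MulAut.conjNormal g (x : K) : K) : G) ∈ N
            rw [MulAut.conjNormal_apply]
            exact hN.conj_mem _ x.2 g
          have h1 := hηN ⟨_, hmem⟩
          simp only at h1
          show (η : K → ℂ) (MulAut.conjNormal g (x : K)) = (θ' : N' → ℂ) x
          rw [h1]
          apply hinvG g x
          simp [MulAut.conjNormal_apply]
        have hfix : ∀ m : K, (ηg : K → ℂ) (m ^ k) = (ηg : K → ℂ) m := by
          intro m
          show (η : K → ℂ) (MulAut.conjNormal g (m ^ k)) = (η : K → ℂ) (MulAut.conjNormal g m)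
          rw [map_pow, hη]
        have hc : ∀ ξ : IrrCharacter K, (∀ x : N', (ξ : K → ℂ) x = (θ' : N' → ℂ) x) →
            classInner (fun n : N' => (ξ : K → ℂ) n) (θ' : N' → ℂ) ≠ 0 := by
          intro ξ hξ
          have : (fun n : N' => (ξ : K → ℂ) n) = (θ' : N' → ℂ) := funext hξ
          rw [this, classInner_irr_self θ'.2]
          exact one_ne_zero
        have := sig_unique N' hoddN' (hk.subgroup K) θ' ηg η hfix hη (hc ηg hextg) (hc η hηN)
        intro m
        conv_rhs => rw [← this]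
        rfl
      have hcyc : IsCyclic (G ⧸ K) := by
        haveI : Fact K.index.Prime := ⟨hMp⟩
        exact isCyclic_of_prime_card (p := K.index) rfl
      obtain ⟨χ, hχ, hχK⟩ := sig_cyclic K hoddK hk hcyc η hη hηinv
      refine ⟨χ, hχ, fun n => ?_⟩
      have h1 := hχK ⟨n, hNM n.2⟩
      simp only at h1
      rw [h1]
      have h2 := hηN ⟨⟨n, hNM n.2⟩, n.2⟩
      simp only at h2
      rw [h2]
      rfl

section

variable [Finite G] (k : ℕ) (N : Subgroup G) [hN : N.Normal] (θ : N → ℂ)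

/-- `ψ` is a character of `H` extending `θ`, fixed by the power map. -/
def IsSigExt (H : Subgroup G) (ψ : H → ℂ) : Prop :=
  IsCharacter H ψ ∧ (∀ (n : N) (h : (n : G) ∈ H), ψ ⟨n, h⟩ = θ n) ∧ ∀ c : H, ψ (c ^ k) = ψ c

variable {k N θ}

omit hN [Finite G] in
theorem IsSigExt.restrict_irr (hθ : IsIrrCharacter N θ) {H : Subgroup G} (hNH : N ≤ H)
    {ψ : H → ℂ} (h : IsSigExt k N θ H ψ) :
    IsIrrCharacter (N.subgroupOf H) (fun x : N.subgroupOf H => ψ x) := by
  let e : N.subgroupOf H ≃* N := Subgroup.subgroupOfEquivOfLe hNH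
  have h1 := Cfsg.Agent.Lib.Helper25.isIrrCharacter_comp_surjective e.toMonoidHom e.surjective hθ
  have h2 : (fun x : N.subgroupOf H => θ (e.toMonoidHom x)) = fun x : N.subgroupOf H => ψ x := by
    funext x
    exact (h.2.1 (e x) x.1.2).symm
  rw [← h2]
  exact h1

omit hN in
theorem IsSigExt.irr (hθ : IsIrrCharacter N θ) {H : Subgroup G} (hNH : N ≤ H)
    {ψ : H → ℂ} (h : IsSigExt k N θ H ψ) : IsIrrCharacter H ψ :=
  Cfsg.Agent.Lib.Helper25.isIrrCharacter_of_restrict (N.subgroupOf H) h.1 (h.restrict_irr hθ hNH)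

theorem IsSigExt.unique {e : ℕ} (hk : SigHyp G k e) (hodd : Odd N.index)
    (hθ : IsIrrCharacter N θ) {H : Subgroup G} (hNH : N ≤ H)
    {ψ ψ' : H → ℂ} (h : IsSigExt k N θ H ψ) (h' : IsSigExt k N θ H ψ') : ψ' = ψ := by
  classical
  haveI : Fintype (N.subgroupOf H) := Fintype.ofFinite _
  haveI : Fintype H := Fintype.ofFinite _
  have hidx := Subgroup.relIndex_mul_index hNH
  have hidx' : Odd (N.subgroupOf H).index := by
    rw [← hidx] at hodd
    exact (Nat.odd_mul.1 hodd).1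
  have heq : (fun n : N.subgroupOf H => ψ' n) = fun n : N.subgroupOf H => ψ n := by
    funext x
    have h1 := h.2.1 ⟨x, x.2⟩ x.1.2
    have h2 := h'.2.1 ⟨x, x.2⟩ x.1.2
    exact h2.trans h1.symm
  have := sig_unique (N.subgroupOf H) hidx' (hk.subgroup H) ⟨_, h.restrict_irr hθ hNH⟩
    ⟨ψ', h'.irr hθ hNH⟩ ⟨ψ, h.irr hθ hNH⟩ h'.2.2 h.2.2
    (by
      show classInner (fun n : N.subgroupOf H => ψ' n) (fun n : N.subgroupOf H => ψ n) ≠ 0
      rw [heq, classInner_irr_self (h.restrict_irr hθ hNH)]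
      exact one_ne_zero)
    (by
      show classInner (fun n : N.subgroupOf H => ψ n) (fun n : N.subgroupOf H => ψ n) ≠ 0
      rw [classInner_irr_self (h.restrict_irr hθ hNH)]
      exact one_ne_zero)
  exact congrArg Subtype.val this

omit hN [Finite G] in
theorem IsSigExt.pull {H H' : Subgroup G} (c : H' →* H)
    (hc : ∀ (n : N) (h' : (n : G) ∈ H'), ∃ n' : N, (c ⟨n, h'⟩ : G) = n' ∧ θ n' = θ n)
    {ψ : H → ℂ} (h : IsSigExt k N θ H ψ) : IsSigExt k N θ H' (ψ ∘ c) := by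
  refine ⟨Helper7.isCharacter_comp_hom h.1 c, ?_, ?_⟩
  · intro n h'
    obtain ⟨n', hn', hθn⟩ := hc n h'
    rw [← hθn, Function.comp_apply]
    have h1 : (n' : G) ∈ H := by rw [← hn']; exact (c ⟨n, h'⟩).2
    rw [← h.2.1 n' h1]
    congr 1
    exact Subtype.ext hn'
  · intro x
    rw [Function.comp_apply, Function.comp_apply, map_pow]
    exact h.2.2 (c x)

theorem exists_isSigExt {e : ℕ} (hk : SigHyp G k e) (hodd : Odd N.index) {θ : IrrCharacter N}
    (hθ : ∀ n : N, (θ : N → ℂ) (n ^ k) = (θ : N → ℂ) n)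
    (hinv : ∀ (g : G) (n : N), (θ : N → ℂ) (MulAut.conjNormal g n) = (θ : N → ℂ) n)
    (E : Subgroup G) [Group.IsSolvable E] :
    ∃ ψ : ↥(N ⊔ E) → ℂ, IsSigExt k N (θ : N → ℂ) (N ⊔ E) ψ := by
  have hNH : N ≤ N ⊔ E := le_sup_left
  let e' : N.subgroupOf (N ⊔ E) ≃* N := Subgroup.subgroupOfEquivOfLe hNH
  have hsolv : Group.IsSolvable (↥(N ⊔ E) ⧸ N.subgroupOf (N ⊔ E)) := by
    let φ : E →* ↥(N ⊔ E) ⧸ N.subgroupOf (N ⊔ E) :=
      (QuotientGroup.mk' _).comp (Subgroup.inclusion (le_sup_right : E ≤ N ⊔ E))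
    apply Group.isSolvable_of_surjective (f := φ)
    intro q
    induction q using QuotientGroup.induction_on with
    | H x =>
      have hx : (x : G) ∈ ((N ⊔ E : Subgroup G) : Set G) := x.2
      rw [Subgroup.normal_mul] at hx
      obtain ⟨n, hn, y, hy, hny⟩ := hx
      refine ⟨⟨y, hy⟩, ?_⟩
      show ((Subgroup.inclusion (le_sup_right : E ≤ N ⊔ E) ⟨y, hy⟩ : ↥(N ⊔ E)) :
        ↥(N ⊔ E) ⧸ N.subgroupOf (N ⊔ E)) = (x : ↥(N ⊔ E) ⧸ N.subgroupOf (N ⊔ E))
      rw [QuotientGroup.eq]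
      show (((Subgroup.inclusion (le_sup_right : E ≤ N ⊔ E) ⟨y, hy⟩)⁻¹ * x : ↥(N ⊔ E)) : G) ∈ N
      simp only [Subgroup.coe_mul, Subgroup.coe_inv, Subgroup.coe_inclusion]
      rw [← hny]
      have := hN.conj_mem n hn y⁻¹
      simpa [mul_assoc] using this
  have hidx := Subgroup.relIndex_mul_index hNH
  have hidx' : Odd (N.subgroupOf (N ⊔ E)).index := by
    rw [← hidx] at hodd
    exact (Nat.odd_mul.1 hodd).1
  have hθ' : ∀ n : N.subgroupOf (N ⊔ E), (mapIrr e' θ : N.subgroupOf (N ⊔ E) → ℂ) (n ^ k)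
      = (mapIrr e' θ : N.subgroupOf (N ⊔ E) → ℂ) n := by
    intro n
    show (θ : N → ℂ) (e' (n ^ k)) = (θ : N → ℂ) (e' n)
    rw [map_pow, hθ]
  have hinv' : ∀ (m : ↥(N ⊔ E)) (x : N.subgroupOf (N ⊔ E)),
      (mapIrr e' θ : N.subgroupOf (N ⊔ E) → ℂ) (MulAut.conjNormal m x)
        = (mapIrr e' θ : N.subgroupOf (N ⊔ E) → ℂ) x := by
    intro m x
    show (θ : N → ℂ) (e' (MulAut.conjNormal m x)) = (θ : N → ℂ) (e' x)
    rw [← hinv (m : G) (e' x)]
    congr 1
  obtain ⟨χ, hχ, hχN⟩ := sig_solvable_aux _ ↥(N ⊔ E) (N.subgroupOf (N ⊔ E)) rfl hidx'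
    (hk.subgroup _) hsolv (mapIrr e' θ) hθ' hinv'
  refine ⟨χ, Helper7.isCharacter_of_irr χ.2, ?_, hχ⟩
  intro n h
  exact hχN ⟨⟨n, h⟩, n.2⟩

end

/-- an invariant fixed character of a normal subgroup of odd index has a fixed extension -/
theorem sig_extend [Finite G] (N : Subgroup G) [hN : N.Normal] (hodd : Odd N.index) {k e : ℕ}
    (hk : SigHyp G k e) (θ : IrrCharacter N)
    (hθ : ∀ n : N, (θ : N → ℂ) (n ^ k) = (θ : N → ℂ) n)
    (hinv : ∀ (g : G) (n : N), (θ : N → ℂ) (MulAut.conjNormal g n) = (θ : N → ℂ) n) :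
    ∃ χ : IrrCharacter G, (∀ g : G, (χ : G → ℂ) (g ^ k) = (χ : G → ℂ) g) ∧
      ∀ n : N, (χ : G → ℂ) n = (θ : N → ℂ) n := by
  classical
  have hex : ∀ g : G, ∃ ψ, IsSigExt k N (θ : N → ℂ) (N ⊔ Subgroup.zpowers g) ψ := fun g => by
    haveI := Cfsg.Agent.Lib.Helper25.isSolvable_zpowers g
    exact exists_isSigExt hk hodd hθ hinv (Subgroup.zpowers g)
  choose Ψ hΨ using hex
  have hgmem : ∀ g : G, g ∈ N ⊔ Subgroup.zpowers g := fun g =>
    (le_sup_right : Subgroup.zpowers g ≤ _) (Subgroup.mem_zpowers g)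
  let f : G → ℂ := fun g => Ψ g ⟨g, hgmem g⟩
  have F1 : ∀ (H : Subgroup G) (_ : N ≤ H) (ψ : H → ℂ), IsSigExt k N (θ : N → ℂ) H ψ →
      ∀ h : H, f h = ψ h := by
    intro H hNH ψ hψ h
    have hle : N ⊔ Subgroup.zpowers (h : G) ≤ H := sup_le hNH (Subgroup.zpowers_le.2 h.2)
    have hpull := IsSigExt.pull (k := k) (N := N) (θ := (θ : N → ℂ))
      (Subgroup.inclusion hle) (fun n h' => ⟨n, rfl, rfl⟩) hψ
    have h1 := IsSigExt.unique hk hodd θ.2 le_sup_left (hΨ h) hpull
    show Ψ h ⟨h, _⟩ = ψ h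
    rw [← h1]
    rfl
  have hcf : IsClassFunction G f := by
    intro g x
    have hle : N ⊔ Subgroup.zpowers (x * g * x⁻¹) ≤
        (N ⊔ Subgroup.zpowers g).comap (MulAut.conj x⁻¹).toMonoidHom := by
      apply sup_le
      · intro n hn
        apply (le_sup_left : N ≤ N ⊔ Subgroup.zpowers g)
        exact hN.conj_mem n hn x⁻¹
      · rw [Subgroup.zpowers_le, Subgroup.mem_comap]
        have : (MulAut.conj x⁻¹).toMonoidHom (x * g * x⁻¹) = g := by
          simp [mul_assoc]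
        rw [this]
        exact hgmem g
    let c : ↥(N ⊔ Subgroup.zpowers (x * g * x⁻¹)) →* ↥(N ⊔ Subgroup.zpowers g) :=
      ((MulAut.conj x⁻¹).toMonoidHom.comp (N ⊔ Subgroup.zpowers (x * g * x⁻¹)).subtype).codRestrict
        (N ⊔ Subgroup.zpowers g) (fun h => hle h.2)
    have hpull := IsSigExt.pull (k := k) (N := N) (θ := (θ : N → ℂ)) c
      (fun n h' => ⟨MulAut.conjNormal x⁻¹ n, rfl, hinv x⁻¹ n⟩) (hΨ g)
    have h1 := F1 _ le_sup_left _ hpull ⟨x * g * x⁻¹, hgmem _⟩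
    simp only at h1
    rw [h1, Function.comp_apply]
    show Ψ g _ = Ψ g _
    congr 1
    apply Subtype.ext
    show x⁻¹ * (x * g * x⁻¹) * x⁻¹⁻¹ = g
    group
  have hfN : ∀ n : N, f n = (θ : N → ℂ) n := fun n => (hΨ n).2.1 n _
  have hfirr : IsIrrCharacter G f := by
    refine Cfsg.Agent.Lib.Helper25.isIrrCharacter_of_patch N θ.2 f hcf hfN ?_
    intro E hE
    obtain ⟨ψ, hψ⟩ := exists_isSigExt hk hodd hθ hinv E
    have : (fun h : ↥(N ⊔ E) => f h) = ψ := funext (F1 _ le_sup_left ψ hψ)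
    rw [this]
    exact hψ.1
  refine ⟨⟨f, hfirr⟩, ?_, hfN⟩
  intro g
  have h1 := F1 _ le_sup_left _ (hΨ g) (⟨g, hgmem g⟩ ^ k)
  have h2 := (hΨ g).2.2 ⟨g, hgmem g⟩
  show f (g ^ k) = f g
  rw [h2] at h1
  exact h1

end Cfsg.Agent.Lib.Helper1
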