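import Mathlib
import Cfsg.Agent.Lib.Helper1.SigmaOdd

/-! Tools around the indicator of the `p`-regular elements and the principal block. -/

set_option autoImplicit false
set_option linter.style.haveILetI false

namespace Cfsg.Agent.Lib.Helper1

open Cfsg Cfsg.Agent.Lib.Helper7 Cfsg.Agent.Lib.Helper24
open scoped ComplexConjugate

universe u
variable {G : Type u} [Group G] {M : Ideal AlgInt} {p : ℕ}

theorem rt_Om_powIrr [Fintype G] {k : ℕ}
    (hk : Nat.Coprime k (Nat.card G)) (p : ℕ) (χ : IrrCharacter G) :
    Om (regInd p G) (powIrr hk χ) = Om (regInd p G) χ := by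
  unfold Om
  rw [powIrr_apply, one_pow]
  congr 1
  refine Fintype.sum_equiv (powCoprime hk.symm) _ _ (fun g => ?_)
  show regInd p G g * (χ : G → ℂ) (g ^ k) = regInd p G (g ^ k) * (χ : G → ℂ) (g ^ k)
  congr 1
  have ho : orderOf (g ^ k) = orderOf g :=
    Nat.Coprime.orderOf_pow (Nat.Coprime.coprime_dvd_right (orderOf_dvd_natCard g) hk).symm
  by_cases hg : p ∣ orderOf g
  · rw [regInd_of_singular hg, regInd_of_singular (ho ▸ hg)]
  · rw [regInd_of_regular hg, regInd_of_regular (ho ▸ hg)]

theorem rt_regInd_coe (p : ℕ) (H : Subgroup G) : (fun h : H => regInd p G h) = regInd p H := by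
  funext h
  by_cases hh : p ∣ orderOf h
  · rw [regInd_of_singular hh, regInd_of_singular (by rwa [Subgroup.orderOf_coe])]
  · rw [regInd_of_regular hh, regInd_of_regular (by rwa [Subgroup.orderOf_coe])]

theorem rt_memLocalRing_Om [Fintype G] (hM : IsPModular p M) {χ : IrrCharacter G}
    (hχ : χ ∈ principalBlock M G) : MemLocalRing M (Om (regInd p G) χ) := by
  haveI := hM.2.1.isPrime
  have h1 : MemLocalIdeal M (Om (regInd p G) χ - Om (regInd p G) (oneIrr G)) :=
    centralSubring_congr (M := M) (v := Om (regInd p G))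
      ⟨regInd p G, isClassFunction_regInd p, memLocalRing_regInd p, rfl⟩ (sameBlock_symm hχ)
  have h2 : MemLocalRing M (Om (regInd p G) (oneIrr G)) := by
    rw [Om_regInd_one]; exact memLocalRing_natCast _
  have := memLocalRing_add (memLocalRing_of_memLocalIdeal h1) h2
  simpa using this

/-- the weighted count of the principal block constituents of an induced character -/
theorem rt_count [Fintype G] (hM : IsPModular p M) (H : Subgroup G) [Fintype H]
    [Fintype (IrrCharacter G)] [DecidablePred (· ∈ principalBlock M G)]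
    (η : IrrCharacter H) (a : IrrCharacter G → ℕ)
    (hsum : indFun H (η : H → ℂ) = ∑ χ : IrrCharacter G, a χ • (χ : G → ℂ)) :
    ∑ χ ∈ Finset.univ.filter (· ∈ principalBlock M G),
      (a χ : ℂ) * ((χ : G → ℂ) 1 * Om (regInd p G) χ)
      = (H.index : ℂ) * ((η : H → ℂ) 1 * Om (regInd p H) η) := by
  have h1 := Cfsg.Agent.Lib.Helper25.frobenius_reciprocity H (η : H → ℂ) (regInd p G)
    (isClassFunction_regInd p)
  rw [rt_regInd_coe, ad_classInner_regInd] at h1
  have h3 : classInner (indFun H (η : H → ℂ)) (regInd p G)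
      = (Nat.card G : ℂ)⁻¹ * ∑ χ ∈ Finset.univ.filter (· ∈ principalBlock M G),
          (a χ : ℂ) * ((χ : G → ℂ) 1 * Om (regInd p G) χ) := by
    conv_lhs => rw [hsum]
    rw [Helper7.classInner_sum_left, Finset.sum_filter, Finset.mul_sum]
    apply Finset.sum_congr rfl
    intro χ _
    rw [← Nat.cast_smul_eq_nsmul ℂ, Helper7.classInner_smul_left, ad_classInner_regInd]
    by_cases hχ : χ ∈ principalBlock M G
    · rw [if_pos hχ]; ring
    · rw [if_neg hχ, Om_regInd_eq_zero hM hχ]
      simp
  rw [h3] at h1
  have hGc : (Nat.card G : ℂ) ≠ 0 := by exact_mod_cast Nat.card_pos.ne'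
  have hHc : (Nat.card H : ℂ) ≠ 0 := by exact_mod_cast Nat.card_pos.ne'
  have h5 : (Nat.card G : ℂ) = Nat.card H * H.index := by
    rw [← H.card_mul_index]; push_cast; ring
  have h6 := congrArg (fun z => (Nat.card G : ℂ) * z) h1
  simp only [mul_inv_cancel_left₀ hGc] at h6
  rw [h6, h5]
  field_simp

/-- sums over a group of a function supported on a subgroup -/
theorem rt_sum_subgroup [Fintype G] (H : Subgroup G) [Fintype H] (F : G → ℂ)
    (hF : ∀ g : G, g ∉ H → F g = 0) : ∑ g : G, F g = ∑ h : H, F h := by
  classical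
  rw [← Finset.sum_image (s := (Finset.univ : Finset H)) (g := fun h : H => (h : G)) (f := F)
    (fun a _ b _ h => Subtype.ext h)]
  symm
  apply Finset.sum_subset (Finset.subset_univ _)
  intro g _ hg
  apply hF
  intro hgH
  exact hg (Finset.mem_image.2 ⟨⟨g, hgH⟩, Finset.mem_univ _, rfl⟩)

/-- if all `p`-regular elements lie in `H` and `χ` restricts irreducibly to `H`, then the two
principal block memberships agree. -/
theorem rt_mem_iff_of_regular_le [Finite G] (hM : IsPModular p M) (H : Subgroup G)
    (hreg : ∀ g : G, ¬ p ∣ orderOf g → g ∈ H) (χ : IrrCharacter G) (η : IrrCharacter H)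
    (hres : ∀ h : H, (χ : G → ℂ) h = (η : H → ℂ) h) :
    χ ∈ principalBlock M G ↔ η ∈ principalBlock M H := by
  classical
  haveI := Fintype.ofFinite G
  haveI : Fintype H := Fintype.ofFinite _
  rw [mem_principalBlock_iff hM, mem_principalBlock_iff hM]
  have : Om (regInd p G) χ = Om (regInd p H) η := by
    unfold Om
    have h1 := hres 1
    simp only [OneMemClass.coe_one] at h1
    rw [h1]
    congr 1
    rw [rt_sum_subgroup H]
    · apply Finset.sum_congr rfl
      intro h _
      rw [hres, ← rt_regInd_coe p H]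
    · intro g hg
      have : p ∣ orderOf g := by
        by_contra hn
        exact hg (hreg g hn)
      rw [regInd_of_singular this, zero_mul]
  rw [this]

end Cfsg.Agent.Lib.Helper1
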